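import Cfsg.Agent.Lib.Helper43.Tri.Kernel

set_option autoImplicit false
set_option linter.unusedSimpArgs false
set_option linter.unusedVariables false
set_option linter.unnecessarySeqFocus false
set_option linter.unusedSectionVars false
set_option linter.style.haveILetI false

/-!
# Cyclic permutation of related triples
-/

namespace Cfsg.Agent.Lib.Helper43.Tri

open Matrix

variable {F : Type*} [Field F]

local notation "Q8" => Cfsg.quadFormPlus 4 F

/-- a linear map vanishing on all nonsingular vectors vanishes -/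
theorem lin_zero_of_nonsing (f : (I8 → F) →ₗ[F] (I8 → F)) (h : ∀ a, Q8 a ≠ 0 → f a = 0) :
    f = 0 := by
  apply LinearMap.pi_ext
  intro i x
  have key : f (Pi.single i 1) = 0 := by
    obtain ⟨w, hw1, hw2⟩ : ∃ w : I8 → F, Q8 w ≠ 0 ∧ Q8 (Pi.single i 1 + w) ≠ 0 := by
      rcases i with a | a <;> fin_cases a
      · refine ⟨Pi.single (Sum.inl 1) 1 + Pi.single (Sum.inr 1) 1, ?_, ?_⟩ <;>
          simp [Cfsg.quadFormPlus, Fin.sum_univ_four, Pi.single_apply]
      · refine ⟨Pi.single (Sum.inl 0) 1 + Pi.single (Sum.inr 0) 1, ?_, ?_⟩ <;>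
          simp [Cfsg.quadFormPlus, Fin.sum_univ_four, Pi.single_apply]
      · refine ⟨Pi.single (Sum.inl 0) 1 + Pi.single (Sum.inr 0) 1, ?_, ?_⟩ <;>
          simp [Cfsg.quadFormPlus, Fin.sum_univ_four, Pi.single_apply]
      · refine ⟨Pi.single (Sum.inl 0) 1 + Pi.single (Sum.inr 0) 1, ?_, ?_⟩ <;>
          simp [Cfsg.quadFormPlus, Fin.sum_univ_four, Pi.single_apply]
      · refine ⟨Pi.single (Sum.inl 1) 1 + Pi.single (Sum.inr 1) 1, ?_, ?_⟩ <;>
          simp [Cfsg.quadFormPlus, Fin.sum_univ_four, Pi.single_apply]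
      · refine ⟨Pi.single (Sum.inl 0) 1 + Pi.single (Sum.inr 0) 1, ?_, ?_⟩ <;>
          simp [Cfsg.quadFormPlus, Fin.sum_univ_four, Pi.single_apply]
      · refine ⟨Pi.single (Sum.inl 0) 1 + Pi.single (Sum.inr 0) 1, ?_, ?_⟩ <;>
          simp [Cfsg.quadFormPlus, Fin.sum_univ_four, Pi.single_apply]
      · refine ⟨Pi.single (Sum.inl 0) 1 + Pi.single (Sum.inr 0) 1, ?_, ?_⟩ <;>
          simp [Cfsg.quadFormPlus, Fin.sum_univ_four, Pi.single_apply]
    have := h _ hw2
    rw [map_add, h w hw1, add_zero] at this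
    exact this
  have hx : (Pi.single i x : I8 → F) = x • Pi.single i 1 := by
    rw [← Pi.single_smul, smul_eq_mul, mul_one]
  rw [hx, map_smul, key, smul_zero, LinearMap.zero_apply]

/-- conjugation by octonion conjugation -/
noncomputable def hatG (g : GL I8 F) : GL I8 F := Kg * g * Kg

theorem hatG_mulVec (g : GL I8 F) (x : I8 → F) :
    ((hatG g : GL I8 F) : Matrix I8 I8 F) *ᵥ x = cj ((g : Matrix I8 I8 F) *ᵥ cj x) := by
  unfold hatG
  rw [Units.val_mul, Units.val_mul, ← Matrix.mulVec_mulVec, ← Matrix.mulVec_mulVec, Kg_val,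
    KM_mulVec, KM_mulVec]

theorem hatG_hatG (g : GL I8 F) : hatG (hatG g) = g := by
  unfold hatG
  calc Kg * (Kg * g * Kg) * Kg = (Kg * Kg) * g * (Kg * Kg) := by group
    _ = g := by rw [Kg_mul_Kg, one_mul, mul_one]

theorem hatG_mul (g h : GL I8 F) : hatG (g * h) = hatG g * hatG h := by
  unfold hatG
  calc Kg * (g * h) * Kg = Kg * g * 1 * h * Kg := by group
    _ = Kg * g * Kg * (Kg * h * Kg) := by rw [← Kg_mul_Kg (F := F)]; group

theorem hatG_eq (g : GL I8 F) : hatG g = Kg * g * Kg⁻¹ := by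
  rw [Kg_inv]
  rfl

/-- the cyclic shift of a related triple whose last member is an isometry -/
theorem Rel.cyc {g0 g1 g2 : GL I8 F} (h : Rel g0 g1 g2) (h2 : g2 ∈ O8 F) :
    Rel (hatG g1) g2 (hatG g0) := by
  have hf : ∀ x y : I8 → F, Q8 y • ((g1 : Matrix I8 I8 F) *ᵥ x) =
      om ((g0 : Matrix I8 I8 F) *ᵥ om x y) (cj ((g2 : Matrix I8 I8 F) *ᵥ y)) := by
    intro x y
    rw [h x y, om_om_cj, (mem_O8_iff g2).1 h2 y]
  have key : ∀ b' a : I8 → F, (g1 : Matrix I8 I8 F) *ᵥ (om b' (cj a)) =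
      om ((g0 : Matrix I8 I8 F) *ᵥ b') (cj ((g2 : Matrix I8 I8 F) *ᵥ a)) := by
    intro b'
    set f : (I8 → F) →ₗ[F] (I8 → F) :=
      (Matrix.mulVecLin (g1 : Matrix I8 I8 F)) ∘ₗ (Lm b') ∘ₗ Km -
        (Lm ((g0 : Matrix I8 I8 F) *ᵥ b')) ∘ₗ Km ∘ₗ (Matrix.mulVecLin (g2 : Matrix I8 I8 F))
      with hfdef
    have hfa : ∀ a, f a = (g1 : Matrix I8 I8 F) *ᵥ (om b' (cj a)) -
        om ((g0 : Matrix I8 I8 F) *ᵥ b') (cj ((g2 : Matrix I8 I8 F) *ᵥ a)) := by
      intro a
      rfl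
    have hf0 : f = 0 := by
      apply lin_zero_of_nonsing
      intro a ha
      rw [hfa, sub_eq_zero]
      have e := hf (om b' (cj a)) a
      rw [om_cj_om', Matrix.mulVec_smul, om_smul_left] at e
      exact smul_right_injective _ ha e
    intro a
    have := hfa a
    rw [hf0, LinearMap.zero_apply] at this
    exact (sub_eq_zero.1 this.symm)
  intro a b
  rw [hatG_mulVec, hatG_mulVec, cj_om, key, cj_om, cj_cj]

end Cfsg.Agent.Lib.Helper43.Tri
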