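import Cfsg.Agent.Lib.Helper43.Tri.Extra
import Cfsg.Agent.Lib.Helper5.AutOrthD4Inst

set_option autoImplicit false
set_option linter.unusedSimpArgs false
set_option linter.unusedVariables false
set_option linter.unnecessarySeqFocus false
set_option linter.unusedSectionVars false
set_option linter.style.haveILetI false

/-!
# `Aut(PΩ⁺₈(F))` is generated by `PΓO⁺₈(F)` and triality
-/

namespace Cfsg.Agent.Lib.Helper43.Tri

open Matrix Cfsg.Agent.Lib.Helper37 Cfsg.Agent.Lib.Helper43.OrthField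

/-- coset decomposition with respect to a subgroup of index at most three -/
theorem exists_pow_mul_of_index_le_three {A : Type*} [Group A] (P : Subgroup A)
    (hle : P.index ≤ 3) (h0 : P.index ≠ 0) (τ : A) (h1 : τ ∉ P) (h3 : τ ^ 3 = 1) (α : A) :
    ∃ k : Fin 3, ∃ γ ∈ P, α = τ ^ (k : ℕ) * γ := by
  haveI : P.FiniteIndex := ⟨h0⟩
  have hinv : τ⁻¹ ∉ P := fun h => h1 (by simpa using P.inv_mem h)
  have e2 : τ ^ 2 = τ⁻¹ := by
    rw [eq_inv_iff_mul_eq_one, ← pow_succ]
    exact h3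
  have hsq : τ ^ 2 ∉ P := by rw [e2]; exact hinv
  set f : Fin 3 → A ⧸ P := fun k => QuotientGroup.mk (τ ^ (k : ℕ)) with hf
  have hinj : Function.Injective f := by
    intro i j hij
    simp only [hf] at hij
    rw [QuotientGroup.eq] at hij
    fin_cases i <;> fin_cases j
    · rfl
    · exfalso
      change (τ ^ 0)⁻¹ * τ ^ 1 ∈ P at hij
      rw [pow_zero, inv_one, one_mul, pow_one] at hij
      exact h1 hij
    · exfalso
      change (τ ^ 0)⁻¹ * τ ^ 2 ∈ P at hij
      rw [pow_zero, inv_one, one_mul] at hij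
      exact hsq hij
    · exfalso
      change (τ ^ 1)⁻¹ * τ ^ 0 ∈ P at hij
      rw [pow_zero, mul_one, pow_one] at hij
      exact hinv hij
    · rfl
    · exfalso
      change (τ ^ 1)⁻¹ * τ ^ 2 ∈ P at hij
      rw [pow_one, pow_two, inv_mul_cancel_left] at hij
      exact h1 hij
    · exfalso
      change (τ ^ 2)⁻¹ * τ ^ 0 ∈ P at hij
      rw [pow_zero, mul_one, e2, inv_inv] at hij
      exact h1 hij
    · exfalso
      change (τ ^ 2)⁻¹ * τ ^ 1 ∈ P at hij
      rw [e2, inv_inv, pow_one, ← pow_two] at hij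
      exact hsq hij
    · rfl
  have hbij : Function.Bijective f := by
    apply Function.Injective.bijective_of_nat_card_le hinj
    rw [Nat.card_fin]
    exact hle
  obtain ⟨k, hk⟩ := hbij.2 (QuotientGroup.mk α)
  simp only [hf] at hk
  rw [QuotientGroup.eq] at hk
  exact ⟨k, _, hk, by group⟩

variable {F : Type*} [Field F] [Fintype F]

local notation "Q8" => Cfsg.quadFormPlus 4 F

/-- every automorphism of `PΩ⁺₈(F)` is a power of triality times an element of `PΓO⁺₈(F)` -/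
theorem aut_decomp (α : MulAut (Cfsg.POmega F Q8)) :
    ∃ k : Fin 3, ∃ γ ∈ Cfsg.gammaPOmega F Q8, α = rho F ^ (k : ℕ) * γ := by
  have h := Cfsg.Agent.Lib.Helper5.AutOrth.index_gamma_plus4 (F := F)
  exact exists_pow_mul_of_index_le_three _ h.1 h.2 (rho F) (rho_not_mem_gamma F)
    (rho_pow_three F) α

/-- the index of `PΓO⁺₈(F)` in `Aut(PΩ⁺₈(F))` is three -/
theorem index_gamma_eq_three : (Cfsg.gammaPOmega F Q8).index = 3 := by
  have h := Cfsg.Agent.Lib.Helper5.AutOrth.index_gamma_plus4 (F := F)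
  have h1 : (Cfsg.gammaPOmega F Q8).index ≠ 1 := by
    intro h1
    rw [Subgroup.index_eq_one] at h1
    exact rho_not_mem_gamma F (h1 ▸ Subgroup.mem_top _)
  have h2 : (Cfsg.gammaPOmega F Q8).index ≠ 2 := by
    intro h2
    have e1 : rho F * rho F ∈ Cfsg.gammaPOmega F Q8 :=
      (Subgroup.mul_mem_iff_of_index_two h2).2
        (iff_of_false (rho_not_mem_gamma F) (rho_not_mem_gamma F))
    have e3 : rho F ^ 3 ∈ Cfsg.gammaPOmega F Q8 := by
      rw [rho_pow_three]; exact Subgroup.one_mem _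
    have e2 : rho F ^ 3 = (rho F * rho F) * rho F := by rw [pow_succ, pow_two]
    rw [e2, Subgroup.mul_mem_iff_of_index_two h2] at e3
    exact rho_not_mem_gamma F (e3.1 e1)
  omega

/-- a standard field automorphism is `PhiF` -/
theorem eq_PhiF_of_isFieldAut {σ : F ≃+* F} {φ : MulAut (Cfsg.POmega F Q8)}
    (hφ : Cfsg.IsFieldAutPOmegaOf Q8 σ φ) : φ = PhiF (fieldEquivariant_plus8 (F := F)) σ := by
  ext x
  induction x using QuotientGroup.induction_on with
  | H s =>
    rw [PhiF_mk]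
    apply hφ
    rw [PhiF_mk_val]

theorem isFieldAut_PhiF (σ : F ≃+* F) :
    Cfsg.IsFieldAutPOmegaOf Q8 σ (PhiF (fieldEquivariant_plus8 (F := F)) σ) := by
  intro s s' h
  rw [PhiF_mk]
  congr 1
  apply omega_ext
  rw [PhiF_mk_val, h]

/-- for `PΩ⁺₈`, a field automorphism (conjugate in the full automorphism group to a standard
one) is already conjugate to it under `PΓO⁺₈(F)` -/
theorem field_class_gamma (x : MulAut (Cfsg.POmega F Q8))
    (hx : Cfsg.IsFieldAutClassPOmega Q8 x) :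
    ∃ γ ∈ Cfsg.gammaPOmega F Q8, ∃ (φ : MulAut (Cfsg.POmega F Q8)) (σ : F ≃+* F),
      σ ≠ RingEquiv.refl F ∧ Cfsg.IsFieldAutPOmegaOf Q8 σ φ ∧ γ * x * γ⁻¹ = φ := by
  obtain ⟨α, φ, σ, hσ, hφ, hconj⟩ := hx
  obtain ⟨k, γ, hγ, rfl⟩ := aut_decomp α
  refine ⟨γ, hγ, φ, σ, hσ, hφ, ?_⟩
  have hφ' := eq_PhiF_of_isFieldAut hφ
  have hcomm : Commute (rho F ^ (k : ℕ)) φ := by
    rw [hφ']
    have h0 : Commute (rho F) (PhiF (fieldEquivariant_plus8 (F := F)) σ) := rho_PhiF σ
    exact h0.pow_left _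
  have e : γ * x * γ⁻¹ = (rho F ^ (k : ℕ))⁻¹ * φ * rho F ^ (k : ℕ) := by
    rw [← hconj]
    group
  rw [e, mul_assoc, ← hcomm.eq, inv_mul_cancel_left]

end Cfsg.Agent.Lib.Helper43.Tri
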