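import Cfsg.Agent.Lib.Helper43.Tri.Extra

set_option autoImplicit false
set_option linter.unusedSimpArgs false
set_option linter.unusedVariables false
set_option linter.unnecessarySeqFocus false
set_option linter.unusedSectionVars false
set_option linter.style.haveILetI false

/-!
# Diagonal related triples
-/

namespace Cfsg.Agent.Lib.Helper43.Tri

open Matrix Cfsg.Agent.Lib.Helper37

variable {F : Type*} [Field F]

local notation "Q8" => Cfsg.quadFormPlus 4 F

/-- the diagonal octonion `diag(c, 1)` -/
def dd (c : F) : I8 → F := toV ⟨c, 0, 0, 0, 0, 0, 0, 1⟩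

theorem Q_dd (c : F) : Q8 (dd c) = c := by
  simp [dd, toV, Cfsg.quadFormPlus, Fin.sum_univ_four]

/-- entries of the diagonal of `L_{diag(c,1)}` -/
def dL (c : F) : I8 → F := Sum.elim (fun _ => c) (fun _ => 1)

/-- entries of the diagonal of `R_{diag(c,1)}` -/
def dR (c : F) : I8 → F := Sum.elim ![c, 1, 1, 1] ![1, c, c, c]

theorem om_dd_left (c : F) (x : I8 → F) : om (dd c) x = fun i => dL c i * x i := by
  funext i
  rcases i with i | i <;> fin_cases i <;> simp [om, toV, ofV, Oct.mul, dd, dL]

theorem om_dd_right (c : F) (x : I8 → F) : om x (dd c) = fun i => dR c i * x i := by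
  funext i
  rcases i with i | i <;> fin_cases i <;> simp [om, toV, ofV, Oct.mul, dd, dR] <;> ring

theorem LM_dd (c : F) : LM (dd c) = Matrix.diagonal (dL c) := by
  apply mat_ext
  intro v
  rw [LM_mulVec, om_dd_left]
  funext i
  rw [Matrix.mulVec_diagonal]

theorem RM_dd (c : F) : RM (dd c) = Matrix.diagonal (dR c) := by
  apply mat_ext
  intro v
  rw [RM_mulVec, om_dd_right]
  funext i
  rw [Matrix.mulVec_diagonal]

theorem cj_dd (c : F) : cj (dd c) = toV ⟨1, 0, 0, 0, 0, 0, 0, c⟩ := by
  funext i
  rcases i with i | i <;> fin_cases i <;> simp [cj, toV, ofV, Oct.conj, dd]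

/-- entries of the diagonal of `R_{diag(1,c)}` -/
def dR' (c : F) : I8 → F := Sum.elim ![1, c, c, c] ![c, 1, 1, 1]

theorem om_cj_dd_right (c : F) (x : I8 → F) : om x (cj (dd c)) = fun i => dR' c i * x i := by
  rw [cj_dd]
  funext i
  rcases i with i | i <;> fin_cases i <;> simp [om, toV, ofV, Oct.mul, dR'] <;> ring

theorem RM_cj_dd (c : F) : RM (cj (dd c)) = Matrix.diagonal (dR' c) := by
  apply mat_ext
  intro v
  rw [RM_mulVec, om_cj_dd_right]
  funext i
  rw [Matrix.mulVec_diagonal]

end Cfsg.Agent.Lib.Helper43.Tri
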