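import Cfsg.Agent.Lib.Helper43.Tri.Main
import Cfsg.Agent.Lib.Helper43.OrthField

set_option autoImplicit false
set_option linter.unusedSimpArgs false
set_option linter.unusedVariables false
set_option linter.unnecessarySeqFocus false
set_option linter.unusedSectionVars false
set_option linter.style.haveILetI false

/-!
# Triality: interaction with the conformal group and with field automorphisms
-/

namespace Cfsg.Agent.Lib.Helper43.Tri

open Matrix Cfsg.Agent.Lib.Helper37 Cfsg.Agent.Lib.Helper43.OrthField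

variable {F : Type*} [Field F]

local notation "Q8" => Cfsg.quadFormPlus 4 F

/-! ### (B2): octonion conjugation inverts triality -/

theorem Rel.conj {g0 g1 g2 : GL I8 F} (h : Rel g0 g1 g2) : Rel (hatG g0) (hatG g2) (hatG g1) := by
  intro a b
  rw [hatG_mulVec, hatG_mulVec, hatG_mulVec, cj_om a b, h (cj b) (cj a), cj_om]

theorem rho_sq_mk [Fintype F] {s s1 s2 : ↥(Om8 F)} (h : Rel (toGL s) (toGL s1) (toGL s2)) :
    rho F (rho F (QuotientGroup.mk s)) = QuotientGroup.mk (hatO s2) := by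
  have hc1 := Rel.cyc h (s2 : ↥(O8 F)).2
  have h2 : Rel (toGL (hatO s1)) (toGL s2) (toGL (hatO s)) := by
    rw [hatO_val, hatO_val]; exact hc1
  rw [rho_mk h, rho_mk h2]

theorem hatP_hatP (x : PO8 F) : hatP (hatP x) = x := by
  induction x using QuotientGroup.induction_on with
  | H s => rw [hatP_mk, hatP_mk, hatO_hatO]

theorem hatP_rho_hatP [Fintype F] (x : PO8 F) : hatP (rho F (hatP x)) = rho F (rho F x) := by
  induction x using QuotientGroup.induction_on with
  | H s =>
    obtain ⟨s1, s2, h⟩ := exists_partner s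
    have hc : Rel (toGL (hatO s)) (toGL (hatO s2)) (toGL (hatO s1)) := by
      rw [hatO_val, hatO_val, hatO_val]
      exact Rel.conj h
    rw [hatP_mk, rho_mk hc, hatO_hatO, hatP_mk, rho_sq_mk h]

/-- octonion conjugation, as an element of `MulAut` -/
noncomputable def kap (F : Type*) [Field F] : MulAut (Cfsg.POmega F (Cfsg.quadFormPlus 4 F)) := hatP

theorem kap_apply (x : PO8 F) : kap F x = hatP x := rfl

theorem kap_mul_kap : kap F * kap F = 1 := by
  ext x
  rw [MulAut.mul_apply, MulAut.one_apply, kap_apply, kap_apply, hatP_hatP]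

theorem kap_inv : (kap F)⁻¹ = kap F := by
  rw [inv_eq_iff_mul_eq_one, kap_mul_kap]

theorem rho_inv [Fintype F] : (rho F)⁻¹ = rho F * rho F := by
  rw [inv_eq_iff_mul_eq_one]
  have := rho_pow_three F
  rw [pow_succ, pow_succ, pow_one] at this
  rw [← this]
  group

/-- (B2) octonion conjugation inverts triality -/
theorem kap_rho_kap [Fintype F] : kap F * rho F * (kap F)⁻¹ = (rho F)⁻¹ := by
  rw [kap_inv, rho_inv]
  ext x
  rw [MulAut.mul_apply, MulAut.mul_apply, MulAut.mul_apply, kap_apply, kap_apply, hatP_rho_hatP]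

theorem O8_le_GO8 : O8 F ≤ GO8 F := by
  intro g hg
  refine ⟨1, fun v => ?_⟩
  rw [(mem_O8_iff g).1 hg v, Units.val_one, one_mul]

theorem Kg_mem_GO8 : (Kg : GL I8 F) ∈ GO8 F := O8_le_GO8 Kg_mem

theorem omega_ext8 (x y : ↥(Om8 F)) (h : toGL x = toGL y) : x = y :=
  Subtype.ext (Subtype.ext h)

/-- `kap` is induced by conjugation with the isometry `Kg` -/
theorem kap_eq_Phi : kap F = Phi Q8 ⟨Kg, Kg_mem_GO8⟩ := by
  ext x
  induction x using QuotientGroup.induction_on with
  | H s =>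
    rw [kap_apply, hatP_mk, Phi_mk]
    congr 1

/-! ### (B4): triality and the conformal group -/

theorem hatG_mem_GO8 {g : GL I8 F} (hg : g ∈ GO8 F) : hatG g ∈ GO8 F :=
  Subgroup.mul_mem _ (Subgroup.mul_mem _ Kg_mem_GO8 hg) Kg_mem_GO8

/-- triality intertwines the automorphisms induced by the members of a related triple of
similarities -/
theorem rho_Phi [Fintype F] {g0 g1 g2 : GL I8 F} (h0 : g0 ∈ GO8 F) (h1 : g1 ∈ GO8 F)
    (h2 : g2 ∈ GO8 F) (hr : Rel g0 g1 g2) :
    rho F * Phi Q8 ⟨g0, h0⟩ = Phi Q8 ⟨hatG g1, hatG_mem_GO8 h1⟩ * rho F := by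
  ext x
  induction x using QuotientGroup.induction_on with
  | H s =>
    obtain ⟨s1, s2, h⟩ := exists_partner s
    rw [MulAut.mul_apply, MulAut.mul_apply, Phi_mk, rho_mk h, Phi_mk]
    set t := MulAut.characteristic (Cfsg.Omega F Q8) (simConjHom Q8 ⟨g0, h0⟩) s with ht
    set t1 := MulAut.characteristic (Cfsg.Omega F Q8) (simConjHom Q8 ⟨g1, h1⟩) s1 with ht1
    set t2 := MulAut.characteristic (Cfsg.Omega F Q8) (simConjHom Q8 ⟨g2, h2⟩) s2 with ht2
    have e0 : toGL t = g0 * toGL s * g0⁻¹ := Phi_mk_val Q8 ⟨g0, h0⟩ s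
    have e1 : toGL t1 = g1 * toGL s1 * g1⁻¹ := Phi_mk_val Q8 ⟨g1, h1⟩ s1
    have e2 : toGL t2 = g2 * toGL s2 * g2⁻¹ := Phi_mk_val Q8 ⟨g2, h2⟩ s2
    have hrel : Rel (toGL t) (toGL t1) (toGL t2) := by
      rw [e0, e1, e2]
      exact Rel.mul (Rel.mul hr h) (Rel.inv hr)
    rw [rho_mk hrel]
    congr 1
    apply omega_ext8
    rw [hatO_val, e1]
    have e3 : toGL (MulAut.characteristic (Cfsg.Omega F Q8)
        (simConjHom Q8 ⟨hatG g1, hatG_mem_GO8 h1⟩) (hatO s1)) =
        hatG g1 * toGL (hatO s1) * (hatG g1)⁻¹ := Phi_mk_val Q8 ⟨hatG g1, hatG_mem_GO8 h1⟩ (hatO s1)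
    rw [e3, hatO_val, hatG_eq, hatG_eq, hatG_eq]
    group

/-- conjugating `L_a` by octonion conjugation gives `R_ā` -/
theorem hatG_Lg (a : I8 → F) (ha : Q8 a ≠ 0) :
    hatG (Lg a ha) = Rg (cj a) (by rw [Q_cj]; exact ha) := by
  apply Units.ext
  apply mat_ext
  intro x
  rw [hatG_mulVec, Lg_val, LM_mulVec, Rg_val, RM_mulVec, cj_om, cj_cj]

/-- the Moufang instance: `ρ` carries the class of `r_a r_1` (up to the scalar `N(a)`) to the
class of `R_ā`, a similarity with multiplier `N(a)` -/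
theorem rho_Phi_moufang [Fintype F] (a : I8 → F) (ha : Q8 a ≠ 0) :
    rho F * Phi Q8 ⟨Lg a ha * Rg a ha, Subgroup.mul_mem _ (Lg_mem a ha) (Rg_mem a ha)⟩ =
      Phi Q8 ⟨Rg (cj a) (by rw [Q_cj]; exact ha), Rg_mem _ _⟩ * rho F := by
  have h := rho_Phi (Subgroup.mul_mem _ (Lg_mem a ha) (Rg_mem a ha)) (Lg_mem a ha) (Rg_mem a ha)
    (moufang_triple a ha).2.2.2
  rw [h]
  congr 2
  exact Subtype.ext (hatG_Lg a ha)

/-- the matrix of `L_a R_a` is `N(a) r_a r_1` -/
theorem Lg_Rg_val (a : I8 → F) (ha : Q8 a ≠ 0) :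
    ((Lg a ha * Rg a ha : GL I8 F) : Matrix I8 I8 F) =
      Q8 a • (Cfsg.reflectionMatrix Q8 a * Cfsg.reflectionMatrix Q8 e1) := by
  apply mat_ext
  intro x
  rw [Units.val_mul, Lg_val, Rg_val, ← Matrix.mulVec_mulVec, RM_mulVec, LM_mulVec, ← om_flex,
    refl_refl a x ha, Matrix.smul_mulVec, Matrix.mulVec_mulVec]

theorem Q_Rg (a : I8 → F) (ha : Q8 a ≠ 0) (v : I8 → F) :
    Q8 (((Rg a ha : GL I8 F) : Matrix I8 I8 F) *ᵥ v) = Q8 a * Q8 v := by
  rw [Rg_val, RM_mulVec, Q_om, mul_comm]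

theorem Q_Lg (a : I8 → F) (ha : Q8 a ≠ 0) (v : I8 → F) :
    Q8 (((Lg a ha : GL I8 F) : Matrix I8 I8 F) *ᵥ v) = Q8 a * Q8 v := by
  rw [Lg_val, LM_mulVec, Q_om]

/-! ### (B3): triality commutes with field automorphisms -/

theorem fieldEquivariant_plus8 : FieldEquivariant (Cfsg.quadFormPlus 4 F) := by
  intro σ v
  simp only [Cfsg.quadFormPlus, map_sum, map_mul]

theorem om_sigma (σ : F ≃+* F) (x y : I8 → F) :
    om (fun i => σ (x i)) (fun i => σ (y i)) = fun i => σ (om x y i) := by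
  funext i
  rcases i with i | i <;> fin_cases i <;>
    simp [om, toV, ofV, Oct.mul, map_add, map_mul, map_sub, map_neg]

theorem cj_sigma (σ : F ≃+* F) (x : I8 → F) :
    cj (fun i => σ (x i)) = fun i => σ (cj x i) := by
  funext i
  rcases i with i | i <;> fin_cases i <;>
    simp [cj, toV, ofV, Oct.conj, map_neg]

theorem sigma_vec_symm (σ : F ≃+* F) (v : I8 → F) :
    (fun i => σ (σ.symm (v i))) = v := by
  ext i
  simp

theorem glMap_mulVec (σ : F ≃+* F) (g : GL I8 F) (v : I8 → F) :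
    ((glMap σ g : GL I8 F) : Matrix I8 I8 F) *ᵥ v =
      fun i => σ (((g : Matrix I8 I8 F) *ᵥ (fun j => σ.symm (v j))) i) := by
  rw [glMap_val, sigma_mulVec, sigma_vec_symm]

theorem Rel.map (σ : F ≃+* F) {g0 g1 g2 : GL I8 F} (h : Rel g0 g1 g2) :
    Rel (glMap σ g0) (glMap σ g1) (glMap σ g2) := by
  intro x y
  rw [glMap_mulVec, glMap_mulVec, glMap_mulVec, om_sigma, ← h]
  funext i
  congr 2
  have := om_sigma σ.symm x y
  exact this.symm

theorem glMap_Kg (σ : F ≃+* F) : glMap σ (Kg : GL I8 F) = Kg := by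
  apply Units.ext
  apply mat_ext
  intro v
  rw [glMap_mulVec, Kg_val, KM_mulVec, KM_mulVec]
  have := cj_sigma σ (fun j => σ.symm (v j))
  rw [sigma_vec_symm] at this
  exact this.symm

theorem glMap_hatG (σ : F ≃+* F) (g : GL I8 F) : glMap σ (hatG g) = hatG (glMap σ g) := by
  unfold hatG
  rw [map_mul, map_mul, glMap_Kg]

/-- (B3) triality commutes with the field automorphisms -/
theorem rho_PhiF [Fintype F] (σ : F ≃+* F) :
    rho F * PhiF (fieldEquivariant_plus8 (F := F)) σ =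
      PhiF (fieldEquivariant_plus8 (F := F)) σ * rho F := by
  ext x
  induction x using QuotientGroup.induction_on with
  | H s =>
    obtain ⟨s1, s2, h⟩ := exists_partner s
    rw [MulAut.mul_apply, MulAut.mul_apply, PhiF_mk, rho_mk h, PhiF_mk]
    set hE := fieldEquivariant_plus8 (F := F) with hhE
    set t := MulAut.characteristic (Cfsg.Omega F Q8) (fieldIso hE σ) s with ht
    set t1 := MulAut.characteristic (Cfsg.Omega F Q8) (fieldIso hE σ) s1 with ht1
    set t2 := MulAut.characteristic (Cfsg.Omega F Q8) (fieldIso hE σ) s2 with ht2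
    have e0 : toGL t = glMap σ (toGL s) := rfl
    have e1 : toGL t1 = glMap σ (toGL s1) := rfl
    have e2 : toGL t2 = glMap σ (toGL s2) := rfl
    have hrel : Rel (toGL t) (toGL t1) (toGL t2) := by
      rw [e0, e1, e2]
      exact Rel.map σ h
    rw [rho_mk hrel]
    congr 1
    apply omega_ext8
    have e3 : toGL (MulAut.characteristic (Cfsg.Omega F Q8) (fieldIso hE σ) (hatO s1)) =
        glMap σ (toGL (hatO s1)) := rfl
    rw [e3, hatO_val, hatO_val, e1, glMap_hatG]

/-- `kap` commutes with the field automorphisms -/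
theorem kap_PhiF (σ : F ≃+* F) :
    kap F * PhiF (fieldEquivariant_plus8 (F := F)) σ =
      PhiF (fieldEquivariant_plus8 (F := F)) σ * kap F := by
  ext x
  induction x using QuotientGroup.induction_on with
  | H s =>
    rw [MulAut.mul_apply, MulAut.mul_apply, PhiF_mk, kap_apply, kap_apply, hatP_mk, hatP_mk,
      PhiF_mk]
    congr 1
    apply omega_ext8
    set hE := fieldEquivariant_plus8 (F := F) with hhE
    have e3 : toGL (MulAut.characteristic (Cfsg.Omega F Q8) (fieldIso hE σ) (hatO s)) =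
        glMap σ (toGL (hatO s)) := rfl
    have e4 : toGL (MulAut.characteristic (Cfsg.Omega F Q8) (fieldIso hE σ) s) =
        glMap σ (toGL s) := rfl
    rw [e3, hatO_val, hatO_val, e4, glMap_hatG]

end Cfsg.Agent.Lib.Helper43.Tri
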