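import Cfsg.Agent.Lib.Helper43.Tri.Refl
import Cfsg.Agent.Lib.Helper8.CartanDieudonne2

set_option autoImplicit false
set_option linter.unusedSimpArgs false
set_option linter.unusedVariables false
set_option linter.unnecessarySeqFocus false
set_option linter.unusedSectionVars false
set_option linter.style.haveILetI false

/-!
# `Ω` lies in the first projection of the group of related triples
-/

namespace Cfsg.Agent.Lib.Helper43.Tri

open Matrix Cfsg.Agent.Lib.Helper8 Cfsg.Agent.Lib.Helper13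

section generic

variable {G : Type*} [Group G]

/-- if a group is generated by a set `S` of involutions, its commutator subgroup is contained in
the subgroup generated by the products of two elements of `S` -/
theorem commutator_le_pairs (S : Set G) (hS : Subgroup.closure S = ⊤) (hinv : ∀ s ∈ S, s⁻¹ = s) :
    commutator G ≤ Subgroup.closure {g | ∃ x ∈ S, ∃ y ∈ S, g = x * y} := by
  set E := Subgroup.closure {g | ∃ x ∈ S, ∃ y ∈ S, g = x * y} with hE
  have hpair : ∀ x ∈ S, ∀ y ∈ S, x * y ∈ E := fun x hx y hy =>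
    Subgroup.subset_closure ⟨x, hx, y, hy, rfl⟩
  -- `E` is normalised by `S`
  have hconjS : ∀ s ∈ S, ∀ e ∈ E, s * e * s⁻¹ ∈ E := by
    intro s hs e he
    refine Subgroup.closure_induction (p := fun e _ => s * e * s⁻¹ ∈ E) ?_ ?_ ?_ ?_ he
    · rintro g ⟨x, hx, y, hy, rfl⟩
      have : s * (x * y) * s⁻¹ = (s * x) * (y * s) := by rw [hinv s hs]; group
      rw [this]
      exact Subgroup.mul_mem _ (hpair s hs x hx) (hpair y hy s hs)
    · rw [mul_one, mul_inv_cancel]; exact Subgroup.one_mem _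
    · intro a b _ _ ha hb
      have : s * (a * b) * s⁻¹ = (s * a * s⁻¹) * (s * b * s⁻¹) := by group
      rw [this]; exact Subgroup.mul_mem _ ha hb
    · intro a _ ha
      have : s * a⁻¹ * s⁻¹ = (s * a * s⁻¹)⁻¹ := by group
      rw [this]; exact Subgroup.inv_mem _ ha
  have htwo : ∀ g : G, ∀ e ∈ E, g * e * g⁻¹ ∈ E ∧ g⁻¹ * e * g ∈ E := by
    intro g
    have hg : g ∈ Subgroup.closure S := by rw [hS]; trivial
    refine Subgroup.closure_induction
      (p := fun g _ => ∀ e ∈ E, g * e * g⁻¹ ∈ E ∧ g⁻¹ * e * g ∈ E) ?_ ?_ ?_ ?_ hg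
    · intro s hs e he
      refine ⟨hconjS s hs e he, ?_⟩
      have := hconjS s hs e he
      rwa [hinv s hs] at this ⊢
    · intro e he; simpa using he
    · intro a b _ _ ha hb e he
      constructor
      · have : a * b * e * (a * b)⁻¹ = a * (b * e * b⁻¹) * a⁻¹ := by group
        rw [this]; exact (ha _ (hb _ he).1).1
      · have : (a * b)⁻¹ * e * (a * b) = b⁻¹ * (a⁻¹ * e * a) * b := by group
        rw [this]; exact (hb _ (ha _ he).2).2
    · intro a _ ha e he
      refine ⟨?_, ?_⟩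
      · rw [inv_inv]; exact (ha e he).2
      · rw [inv_inv]; exact (ha e he).1
  haveI hnormal : E.Normal := ⟨fun e he g => (htwo g e he).1⟩
  -- parity
  have hpar : ∀ g : G, g ∈ E ∨ ∃ s ∈ S, s * g ∈ E := by
    intro g
    have hg : g ∈ Subgroup.closure S := by rw [hS]; trivial
    refine Subgroup.closure_induction (p := fun g _ => g ∈ E ∨ ∃ s ∈ S, s * g ∈ E) ?_ ?_ ?_ ?_ hg
    · intro s hs
      exact Or.inr ⟨s, hs, hpair s hs s hs⟩
    · exact Or.inl (Subgroup.one_mem _)
    · intro a b _ _ ha hb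
      rcases ha with ha | ⟨s, hs, ha⟩
      · rcases hb with hb | ⟨t, ht, hb⟩
        · exact Or.inl (Subgroup.mul_mem _ ha hb)
        · refine Or.inr ⟨t, ht, ?_⟩
          have : t * (a * b) = (t * a * t⁻¹) * (t * b) := by group
          rw [this]
          exact Subgroup.mul_mem _ (htwo t a ha).1 hb
      · rcases hb with hb | ⟨t, ht, hb⟩
        · refine Or.inr ⟨s, hs, ?_⟩
          rw [← mul_assoc]
          exact Subgroup.mul_mem _ ha hb
        · left
          have : a * b = (s * (s * a) * s⁻¹) * (s * t) * (t * b) := by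
            have h1 : s * (s * a) * s⁻¹ * (s * t) * (t * b) = s * s * a * (t * t) * b := by group
            rw [h1]
            have hss : s * s = 1 := by
              have h0 := hinv s hs
              calc s * s = s⁻¹ * s := by rw [h0]
                _ = 1 := inv_mul_cancel s
            have htt : t * t = 1 := by
              have h0 := hinv t ht
              calc t * t = t⁻¹ * t := by rw [h0]
                _ = 1 := inv_mul_cancel t
            rw [hss, htt, one_mul, mul_one]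
          rw [this]
          exact Subgroup.mul_mem _ (Subgroup.mul_mem _ (htwo s _ ha).1 (hpair s hs t ht)) hb
    · intro a _ ha
      rcases ha with ha | ⟨s, hs, ha⟩
      · exact Or.inl (Subgroup.inv_mem _ ha)
      · refine Or.inr ⟨s, hs, ?_⟩
        have h1 : (s * a)⁻¹ ∈ E := Subgroup.inv_mem _ ha
        have : s * a⁻¹ = s * (s * a)⁻¹ * s⁻¹ := by
          rw [hinv s hs]; group
        rw [this]
        exact (htwo s _ h1).1
  rw [commutator_eq_closure, Subgroup.closure_le]
  rintro _ ⟨g, h, rfl⟩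
  rw [SetLike.mem_coe, ← QuotientGroup.eq_one_iff (N := E), ← QuotientGroup.mk'_apply, map_commutatorElement,
    QuotientGroup.mk'_apply, QuotientGroup.mk'_apply]
  have key : ∀ g : G, (g : G ⧸ E) = 1 ∨ ∃ s ∈ S, (g : G ⧸ E) = (s : G ⧸ E) := by
    intro g
    rcases hpar g with hg | ⟨s, hs, hg⟩
    · exact Or.inl ((QuotientGroup.eq_one_iff g).2 hg)
    · refine Or.inr ⟨s, hs, ?_⟩
      have h1 : ((s * g : G) : G ⧸ E) = 1 := (QuotientGroup.eq_one_iff _).2 hg
      rw [QuotientGroup.mk_mul] at h1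
      have h2 : ((s : G) : G ⧸ E) * (s : G ⧸ E) = 1 := by
        rw [← QuotientGroup.mk_mul]
        exact (QuotientGroup.eq_one_iff _).2 (hpair s hs s hs)
      calc (g : G ⧸ E) = ((s : G ⧸ E) * (s : G ⧸ E)) * (g : G ⧸ E) := by rw [h2, one_mul]
        _ = (s : G ⧸ E) * ((s : G ⧸ E) * (g : G ⧸ E)) := by rw [mul_assoc]
        _ = (s : G ⧸ E) := by rw [h1, mul_one]
  rcases key g with hg | ⟨s, hs, hg⟩
  · rw [hg, commutatorElement_one_left]
  · rcases key h with hh | ⟨t, ht, hh⟩
    · rw [hh, commutatorElement_one_right]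
    · rw [hg, hh, commutatorElement_def, ← QuotientGroup.mk_inv, ← QuotientGroup.mk_inv,
        hinv s hs, hinv t ht, ← QuotientGroup.mk_mul, ← QuotientGroup.mk_mul,
        ← QuotientGroup.mk_mul, QuotientGroup.eq_one_iff]
      have : s * t * s * t = (s * t) * (s * t) := by group
      rw [this]
      exact Subgroup.mul_mem _ (hpair s hs t ht) (hpair s hs t ht)

end generic

variable {F : Type*} [Field F]

local notation "Q8" => Cfsg.quadFormPlus 4 F

/-- the first components of related triples of similarities -/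
def H0 (F : Type*) [Field F] : Subgroup (GL I8 F) := (T3 F).map (MonoidHom.fst _ _)

theorem mem_H0 (g : GL I8 F) :
    g ∈ H0 F ↔ ∃ g1 g2 : GL I8 F, g ∈ GO8 F ∧ g1 ∈ GO8 F ∧ g2 ∈ GO8 F ∧ Rel g g1 g2 := by
  constructor
  · rintro ⟨⟨g0, g1, g2⟩, ht, rfl⟩
    exact ⟨g1, g2, ht⟩
  · rintro ⟨g1, g2, h⟩
    exact ⟨(g, g1, g2), h, rfl⟩

/-- `r_a r_1` is a first component -/
theorem refl_e1_mem_H0 (a : I8 → F) (ha : Q8 a ≠ 0) :
    ∃ g : GL I8 F, g ∈ H0 F ∧
      (g : Matrix I8 I8 F) = Cfsg.reflectionMatrix Q8 a * Cfsg.reflectionMatrix Q8 e1 := by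
  refine ⟨(Sg (Q8 a) ha)⁻¹ * (Lg a ha * Rg a ha), ?_, ?_⟩
  · apply Subgroup.mul_mem
    · apply Subgroup.inv_mem
      exact ⟨_, scalar_triple (Q8 a) ha, rfl⟩
    · exact ⟨_, moufang_triple a ha, rfl⟩
  · apply mat_ext
    intro x
    have h1 : ((Lg a ha * Rg a ha : GL I8 F) : Matrix I8 I8 F) *ᵥ x =
        Q8 a • (Cfsg.reflectionMatrix Q8 a *ᵥ (Cfsg.reflectionMatrix Q8 e1 *ᵥ x)) := by
      rw [Units.val_mul, ← Matrix.mulVec_mulVec, Lg_val, Rg_val, RM_mulVec, LM_mulVec, ← om_flex,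
        refl_refl a x ha]
    have h2 : (((Sg (Q8 a) ha)⁻¹ : GL I8 F) : Matrix I8 I8 F) = (Q8 a)⁻¹ • 1 := rfl
    rw [Units.val_mul, ← Matrix.mulVec_mulVec, h1, h2, Matrix.smul_mulVec, Matrix.one_mulVec,
      smul_smul, inv_mul_cancel₀ ha, one_smul, Matrix.mulVec_mulVec]

/-- a product of two reflections is a first component -/
theorem reflPair_mem_H0 (g : GL I8 F) (a b : I8 → F) (ha : Q8 a ≠ 0) (hb : Q8 b ≠ 0)
    (hg : (g : Matrix I8 I8 F) = Cfsg.reflectionMatrix Q8 a * Cfsg.reflectionMatrix Q8 b) :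
    g ∈ H0 F := by
  obtain ⟨ga, hga, ea⟩ := refl_e1_mem_H0 a ha
  obtain ⟨gb, hgb, eb⟩ := refl_e1_mem_H0 b hb
  have hc : (Cfsg.quadFormPlus 4 F) = ⇑(plusForm 4 F) := plusForm_coe 4 F
  have h1 : Cfsg.reflectionMatrix Q8 e1 * Cfsg.reflectionMatrix Q8 e1 = (1 : Matrix I8 I8 F) := by
    have := reflectionMatrix_mul_self (plusForm 4 F) (e1 : I8 → F) (by rw [← hc, Q_e1]; exact one_ne_zero)
    rwa [← hc] at this
  have h2 : Cfsg.reflectionMatrix Q8 b * Cfsg.reflectionMatrix Q8 b = (1 : Matrix I8 I8 F) := by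
    have := reflectionMatrix_mul_self (plusForm 4 F) b (by rw [← hc]; exact hb)
    rwa [← hc] at this
  have : g = ga * gb⁻¹ := by
    rw [eq_mul_inv_iff_mul_eq]
    apply Units.ext
    rw [Units.val_mul, hg, ea, eb, Matrix.mul_assoc, ← Matrix.mul_assoc _ _ (Cfsg.reflectionMatrix Q8 e1),
      h2, Matrix.one_mul]
  rw [this]
  exact Subgroup.mul_mem _ hga (Subgroup.inv_mem _ hgb)

/-- `Ω` consists of first components of related triples -/
theorem omega_le_H0 [Fintype F] :
    ∀ s : ↥(Cfsg.Omega F Q8), ((s : ↥(Cfsg.isometryGroup F Q8)) : GL I8 F) ∈ H0 F := by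
  have hc : (Cfsg.quadFormPlus 4 F) = ⇑(plusForm 4 F) := plusForm_coe 4 F
  have key : ∀ s : ↥(commutator ↥(Cfsg.isometryGroup F ⇑(plusForm 4 F))),
      ((s : ↥(Cfsg.isometryGroup F ⇑(plusForm 4 F))) : GL I8 F) ∈ H0 F := by
    intro s
    have hfr : Module.finrank F (I8 → F) ≠ 4 := by
      rw [Module.finrank_pi]
      simp
    have htop := closure_reflSet_eq_top' (plusForm 4 F) (plusForm_nondegenerate 4 F) (Or.inr hfr)
    have hle := commutator_le_pairs (reflSet (plusForm 4 F)) htop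
      (fun x hx => inv_mem_reflSet (plusForm 4 F) x hx)
    have hs := hle s.2
    have hle2 : Subgroup.closure {g | ∃ x ∈ reflSet (plusForm 4 F), ∃ y ∈ reflSet (plusForm 4 F),
        g = x * y} ≤ (H0 F).comap (Cfsg.isometryGroup F ⇑(plusForm 4 F)).subtype := by
      rw [Subgroup.closure_le]
      rintro _ ⟨x, ⟨u, hu, hxu⟩, y, ⟨v, hv, hyv⟩, rfl⟩
      show ((x * y : ↥(Cfsg.isometryGroup F ⇑(plusForm 4 F))) : GL I8 F) ∈ H0 F
      refine reflPair_mem_H0 _ u v (by rw [hc]; exact hu) (by rw [hc]; exact hv) ?_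
      rw [Subgroup.coe_mul, Units.val_mul, hxu, hyv, hc]
    exact hle2 hs
  rw [hc]
  exact key

end Cfsg.Agent.Lib.Helper43.Tri
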