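import Cfsg.Agent.Lib.Helper43.Tri.Partner

set_option autoImplicit false
set_option linter.unusedSimpArgs false
set_option linter.unusedVariables false
set_option linter.unnecessarySeqFocus false
set_option linter.unusedSectionVars false
set_option linter.style.haveILetI false

/-!
# Uniqueness of partners up to scalars
-/

namespace Cfsg.Agent.Lib.Helper43.Tri

open Matrix

variable {F : Type*} [Field F]

local notation "Q8" => Cfsg.quadFormPlus 4 F

/-- the nucleus of the octonions consists of the scalars -/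
theorem Oct.nucleus (p : Oct F)
    (h : ∀ x z : Oct F, Oct.mul x (Oct.mul p z) = Oct.mul (Oct.mul x p) z) :
    p = Oct.smul p.a Oct.one := by
  have h1 := h ⟨0, 1, 0, 0, 0, 0, 0, 0⟩ ⟨0, 0, 1, 0, 0, 0, 0, 0⟩
  have h2 := h ⟨0, 0, 1, 0, 0, 0, 0, 0⟩ ⟨0, 0, 0, 1, 0, 0, 0, 0⟩
  have h3 := h ⟨0, 0, 0, 1, 0, 0, 0, 0⟩ ⟨0, 1, 0, 0, 0, 0, 0, 0⟩
  simp only [Oct.mul, Oct.mk.injEq, mul_zero, zero_mul, mul_one, one_mul, add_zero, zero_add,
    sub_zero, zero_sub, sub_self, neg_zero] at h1 h2 h3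
  obtain ⟨a1, a2, a3, a4, a5, a6, a7, a8⟩ := h1
  obtain ⟨b1, b2, b3, b4, b5, b6, b7, b8⟩ := h2
  obtain ⟨c1, c2, c3, c4, c5, c6, c7, c8⟩ := h3
  ext <;> simp only [Oct.smul, Oct.one, mul_one, mul_zero]
  · ring
  · linear_combination (-1 : F) * b1
  · linear_combination (-1 : F) * c1
  · linear_combination (-1 : F) * a1
  · linear_combination c4
  · linear_combination a2
  · linear_combination b3
  · linear_combination (-1 : F) * a7

/-- the nucleus, for vectors -/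
theorem nucleusV (p : I8 → F) (h : ∀ x z : I8 → F, om x (om p z) = om (om x p) z) :
    p = p (Sum.inl 0) • e1 := by
  apply ofV_injective
  have h' : ∀ x z : Oct F, Oct.mul x (Oct.mul (ofV p) z) = Oct.mul (Oct.mul x (ofV p)) z := by
    intro x z
    have := congrArg ofV (h (toV x) (toV z))
    rwa [ofV_om, ofV_om, ofV_om, ofV_om, ofV_toV, ofV_toV] at this
  rw [ofV_smul, ofV_e1]
  exact Oct.nucleus (ofV p) h'

/-- partners of the identity are scalars -/
theorem rel_one_scalar {g1 g2 : GL I8 F} (h : Rel 1 g1 g2) :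
    ∃ c : F, c ≠ 0 ∧ (∀ x, (g1 : Matrix I8 I8 F) *ᵥ x = c • x) ∧
      (∀ y, (g2 : Matrix I8 I8 F) *ᵥ y = c⁻¹ • y) := by
  have h' : ∀ x y : I8 → F,
      om x y = om ((g1 : Matrix I8 I8 F) *ᵥ x) ((g2 : Matrix I8 I8 F) *ᵥ y) := by
    intro x y
    have := h x y
    rwa [Units.val_one, Matrix.one_mulVec] at this
  set c := (g2 : Matrix I8 I8 F) *ᵥ e1 with hc
  set d := (g1 : Matrix I8 I8 F) *ᵥ e1 with hd
  have h11 : (e1 : I8 → F) = om d c := by
    have := h' e1 e1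
    rwa [om_e1_left] at this
  have hQ : Q8 d * Q8 c = 1 := by
    rw [← Q_om, ← h11, Q_e1]
  have hQc : Q8 c ≠ 0 := fun h0 => by rw [h0, mul_zero] at hQ; exact zero_ne_one hQ
  have hQd : Q8 d ≠ 0 := fun h0 => by rw [h0, zero_mul] at hQ; exact zero_ne_one hQ
  -- `x = g1(x) c`
  have hx : ∀ x, x = om ((g1 : Matrix I8 I8 F) *ᵥ x) c := by
    intro x
    have := h' x e1
    rwa [om_e1_right] at this
  have hy : ∀ y, y = om d ((g2 : Matrix I8 I8 F) *ᵥ y) := by
    intro y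
    have := h' e1 y
    rwa [om_e1_left] at this
  -- `g1 x = κ • x p`
  have hg1 : ∀ x, (g1 : Matrix I8 I8 F) *ᵥ x = (Q8 c)⁻¹ • om x (cj c) := by
    intro x
    have := congrArg (fun t => om t (cj c)) (hx x)
    rw [om_om_cj] at this
    rw [this, smul_smul, inv_mul_cancel₀ hQc, one_smul]
  have hdp : d = (Q8 c)⁻¹ • cj c := by
    rw [hd, hg1, om_e1_left]
  -- `x (d z) = g1(x) z`
  have h3 : ∀ x z, om x (om d z) = om ((g1 : Matrix I8 I8 F) *ᵥ x) z := by
    intro x z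
    have e1' := h' x (((g2⁻¹ : GL I8 F) : Matrix I8 I8 F) *ᵥ z)
    have e2 := hy (((g2⁻¹ : GL I8 F) : Matrix I8 I8 F) *ᵥ z)
    rw [GL_inv_mulVec] at e1' e2
    rw [← e2, e1']
  have hnuc : ∀ x z, om x (om (cj c) z) = om (om x (cj c)) z := by
    intro x z
    have := h3 x z
    rw [hg1, hdp, om_smul_left, om_smul_left, om_smul_right] at this
    have hk : (Q8 c)⁻¹ ≠ 0 := inv_ne_zero hQc
    exact smul_right_injective _ hk this
  have hp := nucleusV (cj c) hnuc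
  set α := (cj c) (Sum.inl 0) with hα
  have hg1' : ∀ x, (g1 : Matrix I8 I8 F) *ᵥ x = ((Q8 c)⁻¹ * α) • x := by
    intro x
    rw [hg1, hp, om_smul_right, om_e1_right, smul_smul]
  have hne : (Q8 c)⁻¹ * α ≠ 0 := by
    intro h0
    have := hg1' e1
    rw [h0, zero_smul, ← hd] at this
    rw [this] at hQd
    apply hQd
    simp [Cfsg.quadFormPlus]
  refine ⟨(Q8 c)⁻¹ * α, hne, hg1', ?_⟩
  intro y
  have := hy y
  rw [hd, hg1', om_smul_left, om_e1_left] at this
  exact ((inv_smul_eq_iff₀ hne).2 this).symm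

/-- partners are unique up to scalars -/
theorem rel_unique {g0 g1 g2 h1 h2 : GL I8 F} (hg : Rel g0 g1 g2) (hh : Rel g0 h1 h2) :
    ∃ c : F, c ≠ 0 ∧ (∀ x, (h1 : Matrix I8 I8 F) *ᵥ x = c • ((g1 : Matrix I8 I8 F) *ᵥ x)) ∧
      (∀ y, (h2 : Matrix I8 I8 F) *ᵥ y = c⁻¹ • ((g2 : Matrix I8 I8 F) *ᵥ y)) := by
  have h := Rel.mul hh (Rel.inv hg)
  rw [mul_inv_cancel] at h
  obtain ⟨c, hc, e1', e2'⟩ := rel_one_scalar h
  refine ⟨c, hc, fun x => ?_, fun y => ?_⟩
  · have := e1' ((g1 : Matrix I8 I8 F) *ᵥ x)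
    rwa [Units.val_mul, ← Matrix.mulVec_mulVec, GL_inv_mulVec'] at this
  · have := e2' ((g2 : Matrix I8 I8 F) *ᵥ y)
    rwa [Units.val_mul, ← Matrix.mulVec_mulVec, GL_inv_mulVec'] at this

end Cfsg.Agent.Lib.Helper43.Tri
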