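import Cfsg.Agent.Lib.Helper43.Tri.NotGamma

set_option autoImplicit false

/-!
# Triality for `PΩ⁺₈(F)`: summary of the results

* `rho F : MulAut (Cfsg.POmega F (Cfsg.quadFormPlus 4 F))`
* `rho_pow_three F : rho F ^ 3 = 1`
* `rho_not_mem_gamma F : rho F ∉ Cfsg.gammaPOmega F (Cfsg.quadFormPlus 4 F)`
* `rho_mk : Rel (toGL s) (toGL s1) (toGL s2) → rho F (mk s) = mk (hatO s1)`
-/

namespace Cfsg.Agent.Lib.Helper43.Tri

/-- `ρ` has order exactly three -/
theorem rho_ne_one (F : Type*) [Field F] [Fintype F] : rho F ≠ 1 := by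
  intro h
  apply rho_not_mem_gamma F
  rw [h]
  exact Subgroup.one_mem _

/-- `ρ²` is not in the image of `PΓO⁺₈` either -/
theorem rho_sq_not_mem_gamma (F : Type*) [Field F] [Fintype F] :
    rho F ^ 2 ∉ Cfsg.gammaPOmega F (Cfsg.quadFormPlus 4 F) := by
  intro h
  apply rho_not_mem_gamma F
  have h2 := Subgroup.mul_mem _ h h
  have e : rho F ^ 2 * rho F ^ 2 = rho F := by
    calc rho F ^ 2 * rho F ^ 2 = rho F ^ 3 * rho F := by group
      _ = rho F := by rw [rho_pow_three, one_mul]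
  rwa [e] at h2

end Cfsg.Agent.Lib.Helper43.Tri
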