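import Cfsg.Agent.Lib.Helper43.Tri.Diag

set_option autoImplicit false
set_option linter.unusedSimpArgs false
set_option linter.unusedVariables false
set_option linter.unnecessarySeqFocus false
set_option linter.unusedSectionVars false
set_option linter.style.haveILetI false

/-!
# The other two Moufang triples, and the action of triality on `L_a`, `R_a`
-/

namespace Cfsg.Agent.Lib.Helper43.Tri

open Matrix Cfsg.Agent.Lib.Helper37

variable {F : Type*} [Field F]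

local notation "Q8" => Cfsg.quadFormPlus 4 F

theorem Oct.moufang_left {R : Type*} [CommRing R] (a x y : Oct R) :
    Oct.mul (Oct.mul (Oct.mul a x) a) (Oct.mul (Oct.conj a) y) =
      Oct.smul (Oct.N a) (Oct.mul a (Oct.mul x y)) := by
  ext <;> simp only [Oct.mul, Oct.conj, Oct.smul, Oct.N] <;> ring

theorem Oct.moufang_right {R : Type*} [CommRing R] (a x y : Oct R) :
    Oct.mul (Oct.mul x (Oct.conj a)) (Oct.mul (Oct.mul a y) a) =
      Oct.smul (Oct.N a) (Oct.mul (Oct.mul x y) a) := by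
  ext <;> simp only [Oct.mul, Oct.conj, Oct.smul, Oct.N] <;> ring

theorem om_moufang_left (a x y : I8 → F) :
    om (om (om a x) a) (om (cj a) y) = Q8 a • om a (om x y) := by
  apply ofV_injective
  rw [ofV_smul, ← N_ofV]
  simp only [ofV_om, ofV_cj]
  exact Oct.moufang_left _ _ _

theorem om_moufang_right (a x y : I8 → F) :
    om (om x (cj a)) (om (om a y) a) = Q8 a • om (om x y) a := by
  apply ofV_injective
  rw [ofV_smul, ← N_ofV]
  simp only [ofV_om, ofV_cj]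
  exact Oct.moufang_right _ _ _

theorem Q_cj_ne {a : I8 → F} (ha : Q8 a ≠ 0) : Q8 (cj a) ≠ 0 := by rw [Q_cj]; exact ha

/-- the second Moufang triple `(L_a ; N(a)⁻¹ B_a , L_ā)` -/
theorem moufang_triple_L (a : I8 → F) (ha : Q8 a ≠ 0) :
    Rel (Lg a ha) ((Sg (Q8 a) ha)⁻¹ * (Lg a ha * Rg a ha)) (Lg (cj a) (Q_cj_ne ha)) := by
  intro x y
  have h2 : (((Sg (Q8 a) ha)⁻¹ : GL I8 F) : Matrix I8 I8 F) = (Q8 a)⁻¹ • 1 := rfl
  rw [Units.val_mul, Units.val_mul, ← Matrix.mulVec_mulVec, ← Matrix.mulVec_mulVec, h2, Lg_val,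
    Rg_val, Lg_val, RM_mulVec, LM_mulVec, LM_mulVec, LM_mulVec, Matrix.smul_mulVec,
    Matrix.one_mulVec, om_smul_left, ← om_flex, om_moufang_left, smul_smul, inv_mul_cancel₀ ha,
    one_smul]

/-- the third Moufang triple `(R_a ; R_ā , N(a)⁻¹ B_a)` -/
theorem moufang_triple_R (a : I8 → F) (ha : Q8 a ≠ 0) :
    Rel (Rg a ha) (Rg (cj a) (Q_cj_ne ha)) ((Sg (Q8 a) ha)⁻¹ * (Lg a ha * Rg a ha)) := by
  intro x y
  have h2 : (((Sg (Q8 a) ha)⁻¹ : GL I8 F) : Matrix I8 I8 F) = (Q8 a)⁻¹ • 1 := rfl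
  rw [Units.val_mul, Units.val_mul, ← Matrix.mulVec_mulVec, ← Matrix.mulVec_mulVec, h2, Lg_val,
    Rg_val, Rg_val, RM_mulVec, RM_mulVec, RM_mulVec, LM_mulVec, Matrix.smul_mulVec,
    Matrix.one_mulVec, om_smul_right, ← om_flex, om_moufang_right, smul_smul, inv_mul_cancel₀ ha,
    one_smul]

theorem Sg_inv_mem (c : F) (hc : c ≠ 0) : (Sg c hc)⁻¹ ∈ GO8 F :=
  Subgroup.inv_mem _ (Sg_mem c hc)

theorem B_mem (a : I8 → F) (ha : Q8 a ≠ 0) : Lg a ha * Rg a ha ∈ GO8 F :=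
  Subgroup.mul_mem _ (Lg_mem a ha) (Rg_mem a ha)

theorem nB_mem (a : I8 → F) (ha : Q8 a ≠ 0) :
    (Sg (Q8 a) ha)⁻¹ * (Lg a ha * Rg a ha) ∈ GO8 F :=
  Subgroup.mul_mem _ (Sg_inv_mem _ ha) (B_mem a ha)

/-- conjugating `R_a` by octonion conjugation gives `L_ā` -/
theorem hatG_Rg (a : I8 → F) (ha : Q8 a ≠ 0) :
    hatG (Rg a ha) = Lg (cj a) (Q_cj_ne ha) := by
  apply Units.ext
  apply mat_ext
  intro x
  rw [hatG_mulVec, Rg_val, RM_mulVec, Lg_val, LM_mulVec, cj_om, cj_cj]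

/-- triality carries the class of `L_a` to the class of `hat (N(a)⁻¹ B_a)` -/
theorem rho_Phi_L [Fintype F] (a : I8 → F) (ha : Q8 a ≠ 0) :
    rho F * Phi Q8 ⟨Lg a ha, Lg_mem a ha⟩ =
      Phi Q8 ⟨hatG ((Sg (Q8 a) ha)⁻¹ * (Lg a ha * Rg a ha)), hatG_mem_GO8 (nB_mem a ha)⟩ *
        rho F :=
  rho_Phi (Lg_mem a ha) (nB_mem a ha) (Lg_mem _ _) (moufang_triple_L a ha)

/-- triality carries the class of `R_a` to the class of `L_a` -/
theorem rho_Phi_R [Fintype F] (a : I8 → F) (ha : Q8 a ≠ 0) :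
    rho F * Phi Q8 ⟨Rg a ha, Rg_mem a ha⟩ = Phi Q8 ⟨Lg a ha, Lg_mem a ha⟩ * rho F := by
  have h := rho_Phi (Rg_mem a ha) (Rg_mem (cj a) (Q_cj_ne ha)) (nB_mem a ha)
    (moufang_triple_R a ha)
  rw [h]
  congr 2
  apply Subtype.ext
  show hatG (Rg (cj a) (Q_cj_ne ha)) = Lg a ha
  rw [hatG_Rg]
  apply Units.ext
  show LM (cj (cj a)) = LM a
  rw [cj_cj]

end Cfsg.Agent.Lib.Helper43.Tri
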