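import Cfsg.Agent.Lib.Helper43.Tri.Rho
import Cfsg.Agent.Lib.Helper43.OrthPair

set_option autoImplicit false
set_option linter.unusedSimpArgs false
set_option linter.unusedVariables false
set_option linter.unnecessarySeqFocus false
set_option linter.unusedSectionVars false
set_option linter.style.haveILetI false

/-!
# Triality is not induced by a semisimilarity
-/

namespace Cfsg.Agent.Lib.Helper43.Tri

open Matrix Cfsg.Agent.Lib.Helper8 Cfsg.Agent.Lib.Helper13 Cfsg.Agent.Lib.Helper37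
open Cfsg.Agent.Lib.Helper5.AutOrth

variable {F : Type*} [Field F]

local notation "Q8" => Cfsg.quadFormPlus 4 F

/-- matrices of rank at most two, in explicit form -/
def IsRk2 (M : Matrix I8 I8 F) : Prop :=
  ∃ u v u' v' : I8 → F, M = vecMulVec u v + vecMulVec u' v'

theorem IsRk2.mul_left (A : Matrix I8 I8 F) {M : Matrix I8 I8 F} (h : IsRk2 M) :
    IsRk2 (A * M) := by
  obtain ⟨u, v, u', v', rfl⟩ := h
  exact ⟨A *ᵥ u, v, A *ᵥ u', v', by
    rw [Matrix.mul_add, Matrix.mul_vecMulVec, Matrix.mul_vecMulVec]⟩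

theorem IsRk2.mul_right (A : Matrix I8 I8 F) {M : Matrix I8 I8 F} (h : IsRk2 M) :
    IsRk2 (M * A) := by
  obtain ⟨u, v, u', v', rfl⟩ := h
  exact ⟨u, v ᵥ* A, u', v' ᵥ* A, by
    rw [Matrix.add_mul, Matrix.vecMulVec_mul, Matrix.vecMulVec_mul]⟩

theorem IsRk2.map (σ : F ≃+* F) {M : Matrix I8 I8 F} (h : IsRk2 M) : IsRk2 (M.map σ) := by
  obtain ⟨u, v, u', v', rfl⟩ := h
  refine ⟨fun i => σ (u i), fun i => σ (v i), fun i => σ (u' i), fun i => σ (v' i), ?_⟩
  ext i j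
  simp [Matrix.map_apply, Matrix.add_apply, vecMulVec_apply, map_add, map_mul]

theorem IsRk2.det3 {M : Matrix I8 I8 F} (h : IsRk2 M) (r c : Fin 3 → I8) :
    (M.submatrix r c).det = 0 := by
  obtain ⟨u, v, u', v', rfl⟩ := h
  rw [Matrix.det_fin_three]
  simp only [Matrix.submatrix_apply, Matrix.add_apply, vecMulVec_apply]
  ring

theorem reflPair_rk2 (a b : I8 → F) :
    IsRk2 (Cfsg.reflectionMatrix Q8 a * Cfsg.reflectionMatrix Q8 b - 1) := by
  unfold Cfsg.reflectionMatrix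
  set A := (Q8 a)⁻¹ • vecMulVec a (Cfsg.polarVec Q8 a) with hA
  set B := (Q8 b)⁻¹ • vecMulVec b (Cfsg.polarVec Q8 b) with hB
  have e : (1 - A) * (1 - B) - 1 = (-A) + (1 - A) * (-B) := by noncomm_ring
  rw [e]
  refine ⟨-((Q8 a)⁻¹ • a), Cfsg.polarVec Q8 a, (1 - A) *ᵥ (-((Q8 b)⁻¹ • b)), Cfsg.polarVec Q8 b, ?_⟩
  rw [← Matrix.mul_vecMulVec]
  have e1' : -A = vecMulVec (-((Q8 a)⁻¹ • a)) (Cfsg.polarVec Q8 a) := by
    ext i j
    simp [hA, vecMulVec_apply]
    ring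
  have e2' : -B = vecMulVec (-((Q8 b)⁻¹ • b)) (Cfsg.polarVec Q8 b) := by
    ext i j
    simp [hB, vecMulVec_apply]
    ring
  rw [e1', e2']

/-- a nilpotent octonion -/
def nn : I8 → F := Pi.single (Sum.inl 1) 1

/-- a unipotent octonion -/
def bb : I8 → F := e1 + nn

theorem om_nn (x : I8 → F) :
    om nn x = Sum.elim ![-x (Sum.inr 1), x (Sum.inr 0), 0, 0] ![0, 0, x (Sum.inl 3), -x (Sum.inl 2)] := by
  funext i
  rcases i with i | i <;> fin_cases i <;> simp [om, toV, ofV, Oct.mul, nn]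

theorem Q_bb : Q8 (bb : I8 → F) = 1 := by
  simp [bb, nn, e1, toV, Oct.one, Cfsg.quadFormPlus, Fin.sum_univ_four]

theorem LM_add (x y : I8 → F) : LM (x + y) = LM x + LM y := by
  apply mat_ext
  intro v
  rw [Matrix.add_mulVec, LM_mulVec, LM_mulVec, LM_mulVec, om_add_left]

theorem LM_e1 : LM (e1 : I8 → F) = 1 := by
  apply mat_ext
  intro v
  rw [LM_mulVec, om_e1_left, Matrix.one_mulVec]

theorem LM_bb : LM (bb : I8 → F) = 1 + LM nn := by
  unfold bb
  rw [LM_add, LM_e1]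

theorem LM_nn_apply (i j : I8) :
    LM (nn : I8 → F) i j = (om nn (Pi.single j 1)) i := by
  unfold LM
  rw [LinearMap.toMatrix'_apply]
  rfl

theorem M0_not_rk2 (d : F) (hd : d ≠ 0) : ¬ IsRk2 (d • LM (bb : I8 → F) - 1) := by
  intro h
  rw [LM_bb] at h
  by_cases hd1 : d = 1
  · have := h.det3 ![Sum.inl 1, Sum.inr 3, Sum.inr 2] ![Sum.inr 0, Sum.inl 2, Sum.inl 3]
    rw [Matrix.det_fin_three] at this
    simp [hd1, Matrix.sub_apply, Matrix.smul_apply, Matrix.add_apply, Matrix.one_apply, LM_nn_apply,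
      om_nn] at this
  · have := h.det3 ![Sum.inl 1, Sum.inr 3, Sum.inr 2] ![Sum.inl 1, Sum.inr 3, Sum.inr 2]
    rw [Matrix.det_fin_three] at this
    simp [Matrix.sub_apply, Matrix.smul_apply, Matrix.add_apply, Matrix.one_apply, LM_nn_apply,
      om_nn] at this
    exact hd1 (sub_eq_zero.1 this)

/-- the product of the reflections in `bb` and `e1` lies in `Ω` -/
theorem exists_s : ∃ s : ↥(Cfsg.Omega F Q8),
    ((((s : ↥(Cfsg.isometryGroup F Q8)) : GL I8 F) : Matrix I8 I8 F) =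
      Cfsg.reflectionMatrix Q8 bb * Cfsg.reflectionMatrix Q8 e1) := by
  have hb : Q8 (bb : I8 → F) ≠ 0 := by rw [Q_bb]; exact one_ne_zero
  have h1 : Q8 (e1 : I8 → F) ≠ 0 := by rw [Q_e1]; exact one_ne_zero
  have h1b : Q8 (e1 : I8 → F) = Q8 bb := by rw [Q_e1, Q_bb]
  revert hb h1 h1b
  have hc : (Cfsg.quadFormPlus 4 F) = ⇑(plusForm 4 F) := plusForm_coe 4 F
  rw [hc]
  intro hb h1 h1b
  refine ⟨⟨reflElt (plusForm 4 F) bb hb * reflElt (plusForm 4 F) e1 h1,
    refl_mul_refl_mem_omega (plusForm 4 F) (plusForm_nondegenerate 4 F) bb e1 hb h1 h1b⟩, ?_⟩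
  show ((((reflElt (plusForm 4 F) bb hb * reflElt (plusForm 4 F) e1 h1 :
    ↥(Cfsg.isometryGroup F ⇑(plusForm 4 F))) : GL I8 F)) : Matrix I8 I8 F) = _
  rw [Subgroup.coe_mul, Units.val_mul, coe_reflElt, coe_reflElt]

theorem map_sub_one (σ : F ≃+* F) (S : Matrix I8 I8 F) : (S - 1).map σ = S.map σ - 1 := by
  ext i j
  by_cases hij : i = j <;> simp [hij, Matrix.one_apply, Matrix.sub_apply]

theorem rho_not_mem_gamma' [Fintype F] :
    rho F ∉ Cfsg.gammaPOmega F (Cfsg.quadFormPlus 4 F) := by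
  intro hmem
  obtain ⟨g, σ, h, hρ⟩ := (Cfsg.Agent.Lib.Helper43.OrthPair.mem_gamma_iff _).1 hmem
  obtain ⟨s, hs⟩ := exists_s (F := F)
  obtain ⟨s1, s2, hr⟩ := exists_partner s
  have hb : Q8 (bb : I8 → F) ≠ 0 := by rw [Q_bb]; exact one_ne_zero
  have hsB : toGL s = Lg bb hb * Rg bb hb := by
    apply Units.ext
    show ((toGL s : GL I8 F) : Matrix I8 I8 F) = _
    rw [hs]
    apply mat_ext
    intro x
    rw [Units.val_mul, Lg_val, Rg_val, ← Matrix.mulVec_mulVec, ← Matrix.mulVec_mulVec, RM_mulVec,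
      LM_mulVec, ← om_flex, refl_refl bb x hb, Q_bb, one_smul]
  have hr' : Rel (toGL s) (Lg bb hb) (Rg bb hb) := by
    rw [hsB]
    exact (moufang_triple bb hb).2.2.2
  obtain ⟨c, hc, e1', _⟩ := rel_unique hr' hr
  have h1 : rho F (QuotientGroup.mk s) = QuotientGroup.mk (hatO s1) := rho_mk hr
  have h2 : rho F (QuotientGroup.mk s) = QuotientGroup.mk (twAutOmega h s) := by
    rw [hρ, semiAut_mk]
  have h3 : (QuotientGroup.mk (hatO s1) : PO8 F) = QuotientGroup.mk (twAutOmega h s) :=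
    h1.symm.trans h2
  rw [QuotientGroup.eq] at h3
  obtain ⟨ε, hε, hz⟩ := center_scalar _ h3
  -- the matrix of `s1`
  have hs1 : ((toGL s1 : GL I8 F) : Matrix I8 I8 F) = c • LM bb := by
    apply mat_ext
    intro x
    rw [e1' x, Lg_val, Matrix.smul_mulVec]
  have hKK : (KM : Matrix I8 I8 F) * KM = 1 := KM_mul_KM
  -- the matrix of `hatO s1`
  have hh1 : ((toGL (hatO s1) : GL I8 F) : Matrix I8 I8 F) = KM * (c • LM bb) * KM := by
    rw [hatO_val]
    unfold hatG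
    rw [Units.val_mul, Units.val_mul, Kg_val, hs1]
  -- the matrix of the twisted element
  have htw : ((toGL (twAutOmega h s) : GL I8 F) : Matrix I8 I8 F) =
      (g : Matrix I8 I8 F) * ((Cfsg.reflectionMatrix Q8 bb * Cfsg.reflectionMatrix Q8 e1).map σ) *
        ((g⁻¹ : GL I8 F) : Matrix I8 I8 F) := by
    show ((twGL g σ s.1.1 : GL I8 F) : Matrix I8 I8 F) = _
    rw [twGL_val]
    congr 2
    rw [← hs]
  have hz' : ((toGL (twAutOmega h s) : GL I8 F) : Matrix I8 I8 F) =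
      ε • ((toGL (hatO s1) : GL I8 F) : Matrix I8 I8 F) := by
    have e : toGL (twAutOmega h s) = toGL (hatO s1) * toGL ((hatO s1)⁻¹ * twAutOmega h s) := by
      show toGL (twAutOmega h s) = toGL (hatO s1) * ((toGL (hatO s1))⁻¹ * toGL (twAutOmega h s))
      group
    rw [e, Units.val_mul, hz, Matrix.mul_smul, Matrix.mul_one]
  set S := Cfsg.reflectionMatrix Q8 (bb : I8 → F) * Cfsg.reflectionMatrix Q8 e1 with hS
  have hgg : (g : Matrix I8 I8 F) * ((g⁻¹ : GL I8 F) : Matrix I8 I8 F) = 1 := by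
    rw [← Units.val_mul, mul_inv_cancel, Units.val_one]
  have r1 : IsRk2 (S - 1) := reflPair_rk2 bb e1
  have r2 : IsRk2 (S.map σ - 1) := by
    rw [← map_sub_one]
    exact r1.map σ
  have r3 : IsRk2 ((g : Matrix I8 I8 F) * (S.map σ - 1) * ((g⁻¹ : GL I8 F) : Matrix I8 I8 F)) :=
    (r2.mul_left _).mul_right _
  have e3 : (g : Matrix I8 I8 F) * (S.map σ - 1) * ((g⁻¹ : GL I8 F) : Matrix I8 I8 F) =
      (ε * c) • (KM * LM bb * KM) - 1 := by
    rw [Matrix.mul_sub, Matrix.sub_mul, Matrix.mul_one, hgg, ← htw, hz', hh1, Matrix.mul_smul,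
      Matrix.smul_mul, smul_smul]
  rw [e3] at r3
  have r4 : IsRk2 ((KM : Matrix I8 I8 F) * ((ε * c) • (KM * LM bb * KM) - 1) * KM) :=
    (r3.mul_left _).mul_right _
  have e4 : (KM : Matrix I8 I8 F) * ((ε * c) • (KM * LM bb * KM) - 1) * KM =
      (ε * c) • LM bb - 1 := by
    have e5 : (KM : Matrix I8 I8 F) * (KM * LM bb * KM) * KM = LM bb := by
      calc (KM : Matrix I8 I8 F) * (KM * LM bb * KM) * KM
          = (KM * KM) * LM bb * (KM * KM) := by simp only [Matrix.mul_assoc]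
        _ = LM bb := by rw [hKK, Matrix.one_mul, Matrix.mul_one]
    rw [Matrix.mul_sub, Matrix.sub_mul, Matrix.mul_smul, Matrix.smul_mul, e5, Matrix.mul_one, hKK]
  rw [e4] at r4
  exact M0_not_rk2 (ε * c) (mul_ne_zero hε hc) r4

/-- triality is not in the image of `PΓO⁺₈` -/
theorem rho_not_mem_gamma (F : Type*) [Field F] [Fintype F] :
    rho F ∉ Cfsg.gammaPOmega F (Cfsg.quadFormPlus 4 F) :=
  rho_not_mem_gamma'

end Cfsg.Agent.Lib.Helper43.Tri
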