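import Mathlib
import Cfsg.Prelude.Def_Classical

set_option autoImplicit false
set_option linter.unusedSimpArgs false
set_option linter.unusedVariables false
set_option linter.unnecessarySeqFocus false
set_option linter.unusedSectionVars false

/-!
# The split octonion algebra in Zorn coordinates, on `Fin 4 ⊕ Fin 4 → F`
-/

namespace Cfsg.Agent.Lib.Helper43.Tri

/-- Zorn vector matrices -/
@[ext] structure Oct (F : Type*) where
  a : F
  u1 : F
  u2 : F
  u3 : F
  v1 : F
  v2 : F
  v3 : F
  b : F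

namespace Oct

variable {F : Type*} [CommRing F]

/-- Zorn multiplication -/
def mul (x y : Oct F) : Oct F where
  a := x.a * y.a + (x.u1 * y.v1 + x.u2 * y.v2 + x.u3 * y.v3)
  u1 := x.a * y.u1 + y.b * x.u1 - (x.v2 * y.v3 - x.v3 * y.v2)
  u2 := x.a * y.u2 + y.b * x.u2 - (x.v3 * y.v1 - x.v1 * y.v3)
  u3 := x.a * y.u3 + y.b * x.u3 - (x.v1 * y.v2 - x.v2 * y.v1)
  v1 := y.a * x.v1 + x.b * y.v1 + (x.u2 * y.u3 - x.u3 * y.u2)
  v2 := y.a * x.v2 + x.b * y.v2 + (x.u3 * y.u1 - x.u1 * y.u3)
  v3 := y.a * x.v3 + x.b * y.v3 + (x.u1 * y.u2 - x.u2 * y.u1)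
  b := x.b * y.b + (x.v1 * y.u1 + x.v2 * y.u2 + x.v3 * y.u3)

/-- the norm -/
def N (x : Oct F) : F := x.a * x.b - (x.u1 * x.v1 + x.u2 * x.v2 + x.u3 * x.v3)

/-- conjugation -/
def conj (x : Oct F) : Oct F := ⟨x.b, -x.u1, -x.u2, -x.u3, -x.v1, -x.v2, -x.v3, x.a⟩

/-- the identity -/
def one : Oct F := ⟨1, 0, 0, 0, 0, 0, 0, 1⟩

/-- addition -/
def add (x y : Oct F) : Oct F :=
  ⟨x.a + y.a, x.u1 + y.u1, x.u2 + y.u2, x.u3 + y.u3, x.v1 + y.v1, x.v2 + y.v2, x.v3 + y.v3,
    x.b + y.b⟩

/-- scalar multiplication -/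
def smul (c : F) (x : Oct F) : Oct F :=
  ⟨c * x.a, c * x.u1, c * x.u2, c * x.u3, c * x.v1, c * x.v2, c * x.v3, c * x.b⟩

/-- the polar form of the norm -/
def pol (x y : Oct F) : F :=
  x.a * y.b + y.a * x.b - (x.u1 * y.v1 + y.u1 * x.v1 + x.u2 * y.v2 + y.u2 * x.v2 +
    x.u3 * y.v3 + y.u3 * x.v3)

theorem N_mul (x y : Oct F) : N (mul x y) = N x * N y := by
  simp only [N, mul]
  ring

theorem N_conj (x : Oct F) : N (conj x) = N x := by
  simp only [N, conj]
  ring

theorem N_one : N (one : Oct F) = 1 := by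
  simp [N, one]

theorem one_mul (x : Oct F) : mul one x = x := by
  ext <;> simp [mul, one]

theorem mul_one (x : Oct F) : mul x one = x := by
  ext <;> simp [mul, one]

theorem moufang (a x y : Oct F) : mul (mul a x) (mul y a) = mul (mul a (mul x y)) a := by
  ext <;> simp only [mul] <;> ring

theorem flex (a x : Oct F) : mul (mul a x) a = mul a (mul x a) := by
  ext <;> simp only [mul] <;> ring

theorem conj_mul_mul (a x : Oct F) : mul (conj a) (mul a x) = smul (N a) x := by
  ext <;> simp only [mul, conj, smul, N] <;> ring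

theorem mul_conj_mul (a x : Oct F) : mul a (mul (conj a) x) = smul (N a) x := by
  ext <;> simp only [mul, conj, smul, N] <;> ring

theorem mul_mul_conj (a x : Oct F) : mul (mul x a) (conj a) = smul (N a) x := by
  ext <;> simp only [mul, conj, smul, N] <;> ring

theorem mul_conj_mul' (a x : Oct F) : mul (mul x (conj a)) a = smul (N a) x := by
  ext <;> simp only [mul, conj, smul, N] <;> ring

/-- `a x a = ⟨a, x̄⟩ a - N(a) x̄` -/
theorem bmul (a x : Oct F) :
    mul (mul a x) a = add (smul (pol a (conj x)) a) (smul (-(N a)) (conj x)) := by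
  ext <;> simp only [mul, conj, smul, add, N, pol] <;> ring

theorem mul_add (x y z : Oct F) : mul x (add y z) = add (mul x y) (mul x z) := by
  ext <;> simp only [mul, add] <;> ring

theorem add_mul (x y z : Oct F) : mul (add x y) z = add (mul x z) (mul y z) := by
  ext <;> simp only [mul, add] <;> ring

theorem mul_smul (c : F) (x y : Oct F) : mul x (smul c y) = smul c (mul x y) := by
  ext <;> simp only [mul, smul] <;> ring

theorem smul_mul (c : F) (x y : Oct F) : mul (smul c x) y = smul c (mul x y) := by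
  ext <;> simp only [mul, smul] <;> ring

theorem conj_conj (x : Oct F) : conj (conj x) = x := by
  ext <;> simp [conj]

theorem conj_mul (x y : Oct F) : conj (mul x y) = mul (conj y) (conj x) := by
  ext <;> simp only [mul, conj] <;> ring

theorem conj_add (x y : Oct F) : conj (add x y) = add (conj x) (conj y) := by
  ext <;> simp only [add, conj] <;> ring

theorem conj_smul (c : F) (x : Oct F) : conj (smul c x) = smul c (conj x) := by
  ext <;> simp only [smul, conj] <;> ring

/-- `x̄ = ⟨x, 1⟩ 1 - x` -/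
theorem conj_eq (x : Oct F) : conj x = add (smul (pol x one) one) (smul (-1) x) := by
  ext <;> simp only [smul, conj, add, pol, one] <;> ring

end Oct

end Cfsg.Agent.Lib.Helper43.Tri
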