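import Cfsg.Agent.Lib.Helper43.Tri.Oct

set_option autoImplicit false
set_option linter.unusedSimpArgs false
set_option linter.unusedVariables false
set_option linter.unnecessarySeqFocus false
set_option linter.unusedSectionVars false

/-!
# The octonion product on `Fin 4 ⊕ Fin 4 → F`, with norm `quadFormPlus 4 F`
-/

namespace Cfsg.Agent.Lib.Helper43.Tri

open Matrix

variable {F : Type*} [Field F]

/-- the index type -/
abbrev I8 := Fin 4 ⊕ Fin 4

/-- vectors to octonions -/
def ofV (v : I8 → F) : Oct F :=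
  ⟨v (Sum.inl 0), v (Sum.inl 1), v (Sum.inl 2), v (Sum.inl 3),
    -v (Sum.inr 1), -v (Sum.inr 2), -v (Sum.inr 3), v (Sum.inr 0)⟩

/-- octonions to vectors -/
def toV (x : Oct F) : I8 → F :=
  Sum.elim ![x.a, x.u1, x.u2, x.u3] ![x.b, -x.v1, -x.v2, -x.v3]

theorem ofV_toV (x : Oct F) : ofV (toV x) = x := by
  ext <;> simp [ofV, toV]

theorem toV_ofV (v : I8 → F) : toV (ofV v) = v := by
  funext i
  rcases i with i | i <;> fin_cases i <;> simp [ofV, toV]

theorem toV_injective : Function.Injective (toV : Oct F → I8 → F) := by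
  intro x y h
  rw [← ofV_toV x, ← ofV_toV y, h]

theorem toV_add (x y : Oct F) : toV (Oct.add x y) = toV x + toV y := by
  funext i
  rcases i with i | i <;> fin_cases i <;> simp [toV, Oct.add] <;> ring

theorem toV_smul (c : F) (x : Oct F) : toV (Oct.smul c x) = c • toV x := by
  funext i
  rcases i with i | i <;> fin_cases i <;> simp [toV, Oct.smul]

theorem ofV_add (v w : I8 → F) : ofV (v + w) = Oct.add (ofV v) (ofV w) := by
  ext <;> simp [ofV, Oct.add] <;> ring

theorem ofV_smul (c : F) (v : I8 → F) : ofV (c • v) = Oct.smul c (ofV v) := by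
  ext <;> simp [ofV, Oct.smul]

/-- the octonion product of vectors -/
def om (x y : I8 → F) : I8 → F := toV (Oct.mul (ofV x) (ofV y))

/-- the identity octonion as a vector -/
def e1 : I8 → F := toV Oct.one

/-- conjugation on vectors -/
def cj (x : I8 → F) : I8 → F := toV (Oct.conj (ofV x))

theorem N_ofV (v : I8 → F) : Oct.N (ofV v) = Cfsg.quadFormPlus 4 F v := by
  simp only [Oct.N, ofV, Cfsg.quadFormPlus, Fin.sum_univ_four]
  ring

theorem ofV_om (x y : I8 → F) : ofV (om x y) = Oct.mul (ofV x) (ofV y) := by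
  unfold om
  rw [ofV_toV]

theorem ofV_e1 : ofV (e1 : I8 → F) = Oct.one := by
  unfold e1
  rw [ofV_toV]

theorem ofV_cj (x : I8 → F) : ofV (cj x) = Oct.conj (ofV x) := by
  unfold cj
  rw [ofV_toV]

theorem Q_om (x y : I8 → F) :
    Cfsg.quadFormPlus 4 F (om x y) = Cfsg.quadFormPlus 4 F x * Cfsg.quadFormPlus 4 F y := by
  rw [← N_ofV, ← N_ofV, ← N_ofV, ofV_om, Oct.N_mul]

theorem Q_e1 : Cfsg.quadFormPlus 4 F (e1 : I8 → F) = 1 := by
  rw [← N_ofV, ofV_e1, Oct.N_one]

theorem Q_cj (x : I8 → F) : Cfsg.quadFormPlus 4 F (cj x) = Cfsg.quadFormPlus 4 F x := by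
  rw [← N_ofV, ← N_ofV, ofV_cj, Oct.N_conj]

theorem om_e1_left (x : I8 → F) : om e1 x = x := by
  apply_fun ofV using (fun a b h => by rw [← toV_ofV a, ← toV_ofV b, h])
  rw [ofV_om, ofV_e1, Oct.one_mul]

theorem om_e1_right (x : I8 → F) : om x e1 = x := by
  apply_fun ofV using (fun a b h => by rw [← toV_ofV a, ← toV_ofV b, h])
  rw [ofV_om, ofV_e1, Oct.mul_one]

theorem ofV_injective : Function.Injective (ofV : (I8 → F) → Oct F) :=
  fun a b h => by rw [← toV_ofV a, ← toV_ofV b, h]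

theorem om_add_right (x y z : I8 → F) : om x (y + z) = om x y + om x z := by
  apply ofV_injective
  rw [ofV_om, ofV_add, ofV_add, ofV_om, ofV_om, Oct.mul_add]

theorem om_add_left (x y z : I8 → F) : om (x + y) z = om x z + om y z := by
  apply ofV_injective
  rw [ofV_om, ofV_add, ofV_add, ofV_om, ofV_om, Oct.add_mul]

theorem om_smul_right (c : F) (x y : I8 → F) : om x (c • y) = c • om x y := by
  apply ofV_injective
  rw [ofV_om, ofV_smul, ofV_smul, ofV_om, Oct.mul_smul]

theorem om_smul_left (c : F) (x y : I8 → F) : om (c • x) y = c • om x y := by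
  apply ofV_injective
  rw [ofV_om, ofV_smul, ofV_smul, ofV_om, Oct.smul_mul]

theorem om_moufang (a x y : I8 → F) : om (om a x) (om y a) = om (om a (om x y)) a := by
  apply ofV_injective
  simp only [ofV_om]
  exact Oct.moufang _ _ _

theorem om_flex (a x : I8 → F) : om (om a x) a = om a (om x a) := by
  apply ofV_injective
  simp only [ofV_om]
  exact Oct.flex _ _

theorem cj_om_om (a x : I8 → F) : om (cj a) (om a x) = Cfsg.quadFormPlus 4 F a • x := by
  apply ofV_injective
  rw [ofV_om, ofV_om, ofV_cj, ofV_smul, Oct.conj_mul_mul, N_ofV]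

theorem om_cj_om (a x : I8 → F) : om a (om (cj a) x) = Cfsg.quadFormPlus 4 F a • x := by
  apply ofV_injective
  rw [ofV_om, ofV_om, ofV_cj, ofV_smul, Oct.mul_conj_mul, N_ofV]

theorem om_om_cj (a x : I8 → F) : om (om x a) (cj a) = Cfsg.quadFormPlus 4 F a • x := by
  apply ofV_injective
  rw [ofV_om, ofV_om, ofV_cj, ofV_smul, Oct.mul_mul_conj, N_ofV]

theorem om_cj_om' (a x : I8 → F) : om (om x (cj a)) a = Cfsg.quadFormPlus 4 F a • x := by
  apply ofV_injective
  rw [ofV_om, ofV_om, ofV_cj, ofV_smul, Oct.mul_conj_mul', N_ofV]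

theorem pol_ofV (x y : I8 → F) :
    Oct.pol (ofV x) (ofV y) = QuadraticMap.polar (Cfsg.quadFormPlus 4 F) x y := by
  simp only [Oct.pol, ofV, QuadraticMap.polar, Cfsg.quadFormPlus, Fin.sum_univ_four, Pi.add_apply]
  ring

/-- `a x a = ⟨a, x̄⟩ a - N(a) x̄` -/
theorem om_bmul (a x : I8 → F) :
    om (om a x) a = QuadraticMap.polar (Cfsg.quadFormPlus 4 F) a (cj x) • a
      - Cfsg.quadFormPlus 4 F a • cj x := by
  apply ofV_injective
  rw [ofV_om, ofV_om, Oct.bmul, sub_eq_add_neg, ofV_add, ofV_smul, ← neg_smul, ofV_smul,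
    ← pol_ofV, ofV_cj, N_ofV]

end Cfsg.Agent.Lib.Helper43.Tri
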