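import Mathlib
import Cfsg.Agent.Lib.Helper97.FC4
import Cfsg.Agent.Lib.Helper66.OCGroup

/-!
# Abstract assembly of `Out(PΩ⁺₈(q))`

Pure group theory: a group `A` with a normal subgroup `I`, a chain `I ≤ D ≤ P ≤ Γ`, a "triality"
`ρ`, a "reflection" `κ` and a "field automorphism" `φ`.
-/

set_option autoImplicit false
set_option linter.unusedSectionVars false
set_option linter.unusedVariables false
set_option linter.style.haveILetI false

namespace Cfsg.Agent.Lib.Helper43.Tri.OutAbs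

open Subgroup

/-- in `S₃`, an element commuting with an element of order three and with an involution
inverting it is trivial -/
theorem s3_central_aux : ∀ R K C : Equiv.Perm (Fin 3), (R ^ 3 = 1 ∧ R ≠ 1 ∧ K * R * K⁻¹ = R⁻¹ ∧
    C * R = R * C ∧ C * K = K * C) → C = 1 := by decide

theorem s3_central (R K C : Equiv.Perm (Fin 3)) (h1 : R ^ 3 = 1) (h2 : R ≠ 1)
    (h3 : K * R * K⁻¹ = R⁻¹) (h4 : C * R = R * C) (h5 : C * K = K * C) : C = 1 :=
  s3_central_aux R K C ⟨h1, h2, h3, h4, h5⟩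

section

variable {A : Type*} [Group A] (I : Subgroup A) (D P Γ : Subgroup A) (ρ κ φ : A) (f : ℕ)

/-- the abstract situation -/
structure Setup : Prop where
  hID : I ≤ D
  hDP : D ≤ P
  hPΓ : P ≤ Γ
  hdec : ∀ α : A, ∃ k : ℕ, ∃ γ ∈ Γ, α = ρ ^ k * γ
  hρ3 : ρ ^ 3 = 1
  hρΓ : ρ ∉ Γ
  hκP : κ ∈ P
  hκ2 : κ * κ = 1
  hκρ : κ * ρ * κ = ρ⁻¹
  hφΓ : φ ∈ Γ
  hφρ : φ * ρ = ρ * φ
  hφκ : φ * κ = κ * φ
  hφf : φ ^ f = 1
  hΘ : ∃ Θ : Γ →* Multiplicative (ZMod f), Θ.ker = P.subgroupOf Γ ∧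
    Θ ⟨φ, hφΓ⟩ = Multiplicative.ofAdd 1
  hPD : ∀ x ∈ P, x ∈ D ∨ x * κ ∈ D
  hDρ : ∀ d ∈ D, ρ * d * ρ⁻¹ ∈ D
  hDΓ : ∀ γ ∈ Γ, ∀ d ∈ D, γ * d * γ⁻¹ ∈ D

variable {I D P Γ ρ κ φ f}

namespace Setup

variable (h : Setup I D P Γ ρ κ φ f)
include h

theorem kinv : κ⁻¹ = κ := inv_eq_of_mul_eq_one_left h.hκ2

theorem D_normal : D.Normal := by
  have hpow : ∀ k : ℕ, ∀ d ∈ D, ρ ^ k * d * (ρ ^ k)⁻¹ ∈ D := by
    intro k
    induction k with
    | zero => intro d hd; simpa using hd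
    | succ k ih =>
      intro d hd
      have e : ρ ^ (k + 1) * d * (ρ ^ (k + 1))⁻¹ = ρ ^ k * (ρ * d * ρ⁻¹) * (ρ ^ k)⁻¹ := by
        rw [pow_succ]; group
      rw [e]
      exact ih _ (h.hDρ d hd)
  constructor
  intro d hd α
  obtain ⟨k, γ, hγ, rfl⟩ := h.hdec α
  have e : ρ ^ k * γ * d * (ρ ^ k * γ)⁻¹ = ρ ^ k * (γ * d * γ⁻¹) * (ρ ^ k)⁻¹ := by group
  rw [e]
  exact hpow k _ (h.hDΓ γ hγ d hd)

theorem rho_zpow_mem (n : ℤ) (hn : ρ ^ n ∈ Γ) : (3 : ℤ) ∣ n := by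
  have e : ρ ^ n = ρ ^ (n % 3) := by
    conv_lhs => rw [← Int.mul_ediv_add_emod n 3]
    rw [zpow_add, zpow_mul]
    have : ρ ^ (3 : ℤ) = 1 := by
      have := h.hρ3
      exact_mod_cast this
    rw [this, one_zpow, one_mul]
  have h0 : 0 ≤ n % 3 := Int.emod_nonneg _ (by norm_num)
  have h3 : n % 3 < 3 := Int.emod_lt_of_pos _ (by norm_num)
  rw [e] at hn
  have hc : n % 3 = 0 ∨ n % 3 = 1 ∨ n % 3 = 2 := by omega
  rcases hc with hc | hc | hc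
  · exact Int.dvd_of_emod_eq_zero hc
  · exfalso
    rw [hc, zpow_one] at hn
    exact h.hρΓ hn
  · exfalso
    rw [hc] at hn
    have e2 : ρ = (ρ ^ (2 : ℤ))⁻¹ := by
      have h3' : ρ ^ (3 : ℤ) = 1 := by
        have := h.hρ3
        exact_mod_cast this
      have : ρ ^ (3 : ℤ) = ρ * ρ ^ (2 : ℤ) := by
        rw [show (3 : ℤ) = 1 + 2 by norm_num, zpow_add, zpow_one]
      rw [this] at h3'
      exact eq_inv_of_mul_eq_one_left h3'
    apply h.hρΓ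
    rw [e2]
    exact Γ.inv_mem hn

theorem rho_zpow_eq_one (n : ℤ) (hn : (3 : ℤ) ∣ n) : ρ ^ n = 1 := by
  obtain ⟨k, rfl⟩ := hn
  rw [zpow_mul]
  have : ρ ^ (3 : ℤ) = 1 := by
    have := h.hρ3
    exact_mod_cast this
  rw [this, one_zpow]

theorem kap_zpow (n : ℤ) : κ * ρ ^ n = (ρ ^ n)⁻¹ * κ := by
  have e1 : MulAut.conj κ ρ = ρ⁻¹ := by
    rw [MulAut.conj_apply, h.kinv]
    exact h.hκρ
  have e2 : MulAut.conj κ (ρ ^ n) = (ρ⁻¹) ^ n := by
    rw [map_zpow, e1]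
  rw [MulAut.conj_apply, h.kinv, inv_zpow] at e2
  calc κ * ρ ^ n = κ * ρ ^ n * κ * κ := by rw [mul_assoc (κ * ρ ^ n), h.hκ2, mul_one]
    _ = (ρ ^ n)⁻¹ * κ := by rw [e2]

/-- moving a power of `ρ` across an element of `P` -/
theorem key (p : A) (hp : p ∈ P) (n : ℤ) : ∃ n' : ℤ, ρ ^ n' * (p * ρ ^ n) ∈ P := by
  rcases h.hPD p hp with hd | hd
  · refine ⟨-n, ?_⟩
    apply h.hDP
    have e : ρ ^ (-n) * (p * ρ ^ n) = ρ ^ (-n) * p * (ρ ^ (-n))⁻¹ := by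
      rw [zpow_neg, inv_inv, mul_assoc]
    rw [e]
    exact h.D_normal.conj_mem p hd _
  · refine ⟨n, ?_⟩
    have e : ρ ^ n * (p * ρ ^ n) = ρ ^ n * (p * κ) * (ρ ^ n)⁻¹ * κ := by
      have : p * ρ ^ n = p * κ * (κ * ρ ^ n) := by
        rw [mul_assoc p κ, ← mul_assoc κ κ, h.hκ2, one_mul]
      rw [this, h.kap_zpow]
      group
    rw [e]
    exact P.mul_mem (h.hDP (h.D_normal.conj_mem _ hd _)) h.hκP

/-- the complement of the field automorphisms (as a subgroup of `A`, containing `I`) -/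
def Xt : Subgroup A where
  carrier := {x | ∃ n : ℤ, ρ ^ n * x ∈ P}
  one_mem' := ⟨0, by simp [P.one_mem]⟩
  mul_mem' := by
    rintro x y ⟨a, ha⟩ ⟨b, hb⟩
    obtain ⟨n', hn'⟩ := h.key _ ha (-b)
    refine ⟨n' + a, ?_⟩
    have e : ρ ^ (n' + a) * (x * y) = ρ ^ n' * (ρ ^ a * x * ρ ^ (-b)) * (ρ ^ b * y) := by
      rw [zpow_add, zpow_neg]; group
    rw [e]
    exact P.mul_mem hn' hb
  inv_mem' := by
    rintro x ⟨a, ha⟩
    obtain ⟨n', hn'⟩ := h.key _ (P.inv_mem ha) a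
    refine ⟨n', ?_⟩
    have e : ρ ^ n' * x⁻¹ = ρ ^ n' * ((ρ ^ a * x)⁻¹ * ρ ^ a) := by group
    rw [e]
    exact hn'

theorem mem_Xt (x : A) : x ∈ h.Xt ↔ ∃ n : ℤ, ρ ^ n * x ∈ P := Iff.rfl

theorem P_le_Xt : P ≤ h.Xt := fun x hx => ⟨0, by simpa using hx⟩

theorem rho_mem_Xt : ρ ∈ h.Xt := ⟨-1, by simp [P.one_mem]⟩

theorem Theta_phi_zpow (Θ : Γ →* Multiplicative (ZMod f))
    (hΘφ : Θ ⟨φ, h.hφΓ⟩ = Multiplicative.ofAdd 1) (j : ℤ) :
    Θ ⟨φ ^ j, Γ.zpow_mem h.hφΓ j⟩ = Multiplicative.ofAdd (j : ZMod f) := by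
  have e : (⟨φ ^ j, Γ.zpow_mem h.hφΓ j⟩ : Γ) = (⟨φ, h.hφΓ⟩ : Γ) ^ j := by
    apply Subtype.ext
    rw [Subgroup.coe_zpow]
  rw [e, map_zpow, hΘφ, ← ofAdd_zsmul]
  congr 1
  simp

theorem phi_zpow_mem (j : ℤ) (hj : φ ^ j ∈ h.Xt) : (f : ℤ) ∣ j := by
  obtain ⟨Θ, hΘk, hΘφ⟩ := h.hΘ
  obtain ⟨n, hn⟩ := hj
  have h1 : ρ ^ n ∈ Γ := by
    have := Γ.mul_mem (h.hPΓ hn) (Γ.inv_mem (Γ.zpow_mem h.hφΓ j))
    rwa [mul_inv_cancel_right] at this
  rw [h.rho_zpow_eq_one n (h.rho_zpow_mem n h1), one_mul] at hn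
  have h2 : (⟨φ ^ j, Γ.zpow_mem h.hφΓ j⟩ : Γ) ∈ Θ.ker := by
    rw [hΘk, Subgroup.mem_subgroupOf]
    exact hn
  rw [MonoidHom.mem_ker, h.Theta_phi_zpow Θ hΘφ] at h2
  have h3 : (j : ZMod f) = 0 := by
    have := congrArg Multiplicative.toAdd h2
    simpa using this
  exact (ZMod.intCast_zmod_eq_zero_iff_dvd j f).1 h3

theorem phi_zpow_eq_one (j : ℤ) (hj : (f : ℤ) ∣ j) : φ ^ j = 1 := by
  obtain ⟨k, rfl⟩ := hj
  rw [zpow_mul, zpow_natCast, h.hφf, one_zpow]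

/-- every element is in `Xt` times a power of `φ` -/
theorem exists_decomp [NeZero f] (α : A) : ∃ x ∈ h.Xt, ∃ j : ℤ, α = x * φ ^ j := by
  obtain ⟨Θ, hΘk, hΘφ⟩ := h.hΘ
  obtain ⟨k, γ, hγ, rfl⟩ := h.hdec α
  set z : ZMod f := Multiplicative.toAdd (Θ ⟨γ, hγ⟩) with hz
  set j : ℤ := (z.val : ℤ) with hj
  have hjz : (j : ZMod f) = z := by
    rw [hj]
    simp
  have h1 : (⟨γ * (φ ^ j)⁻¹, Γ.mul_mem hγ (Γ.inv_mem (Γ.zpow_mem h.hφΓ j))⟩ : Γ) ∈ Θ.ker := by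
    have e : (⟨γ * (φ ^ j)⁻¹, Γ.mul_mem hγ (Γ.inv_mem (Γ.zpow_mem h.hφΓ j))⟩ : Γ) =
        ⟨γ, hγ⟩ * (⟨φ ^ j, Γ.zpow_mem h.hφΓ j⟩ : Γ)⁻¹ := rfl
    rw [MonoidHom.mem_ker, e, map_mul, map_inv, h.Theta_phi_zpow Θ hΘφ, hjz, hz, ofAdd_toAdd,
      mul_inv_cancel]
  rw [hΘk, Subgroup.mem_subgroupOf] at h1
  refine ⟨ρ ^ k * (γ * (φ ^ j)⁻¹), ⟨-(k : ℤ), ?_⟩, j, by group⟩
  have e : ρ ^ (-(k : ℤ)) * (ρ ^ k * (γ * (φ ^ j)⁻¹)) = γ * (φ ^ j)⁻¹ := by
    rw [zpow_neg, zpow_natCast, inv_mul_cancel_left]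
  rw [e]
  exact h1

theorem I_le_Xt : I ≤ h.Xt := h.hID.trans (h.hDP.trans h.P_le_Xt)

theorem phi_comm_P (hφD : ∀ d ∈ D, φ * d * φ⁻¹ * d⁻¹ ∈ I) (p : A) (hp : p ∈ P) :
    φ * p * φ⁻¹ * p⁻¹ ∈ I := by
  rcases h.hPD p hp with hd | hd
  · exact hφD p hd
  · have e2 : κ * φ⁻¹ = φ⁻¹ * κ := ((show Commute φ κ from h.hφκ).symm.inv_right).eq
    have e : φ * p * φ⁻¹ * p⁻¹ = φ * (p * κ) * φ⁻¹ * (p * κ)⁻¹ := by
      have : φ * (p * κ) * φ⁻¹ * (p * κ)⁻¹ = φ * p * (κ * φ⁻¹) * κ⁻¹ * p⁻¹ := by group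
      rw [this, e2]
      group
    rw [e]
    exact hφD _ hd

theorem phi_central [I.Normal] [NeZero f] (hφD : ∀ d ∈ D, φ * d * φ⁻¹ * d⁻¹ ∈ I) (α : A) :
    φ * α * φ⁻¹ * α⁻¹ ∈ I := by
  obtain ⟨x, ⟨n, hn⟩, j, rfl⟩ := h.exists_decomp α
  set p := ρ ^ n * x with hp
  have hx : x = (ρ ^ n)⁻¹ * p := by rw [hp, inv_mul_cancel_left]
  have hc1 : Commute φ ((ρ ^ n)⁻¹) := ((show Commute φ ρ from h.hφρ).zpow_right n).inv_right
  have hc2 : Commute (φ ^ j) (φ⁻¹) := ((Commute.refl φ).zpow_right j).symm.inv_right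
  have e1 := hc1.eq
  have e2 := hc2.eq
  have e : φ * (x * φ ^ j) * φ⁻¹ * (x * φ ^ j)⁻¹ =
      (ρ ^ n)⁻¹ * (φ * p * φ⁻¹ * p⁻¹) * ((ρ ^ n)⁻¹)⁻¹ := by
    rw [hx]
    calc φ * ((ρ ^ n)⁻¹ * p * φ ^ j) * φ⁻¹ * ((ρ ^ n)⁻¹ * p * φ ^ j)⁻¹
        = (φ * (ρ ^ n)⁻¹) * p * (φ ^ j * φ⁻¹) * (φ ^ j)⁻¹ * p⁻¹ * ((ρ ^ n)⁻¹)⁻¹ := by group
      _ = ((ρ ^ n)⁻¹ * φ) * p * (φ⁻¹ * φ ^ j) * (φ ^ j)⁻¹ * p⁻¹ * ((ρ ^ n)⁻¹)⁻¹ := by
          rw [e1, e2]
      _ = (ρ ^ n)⁻¹ * (φ * p * φ⁻¹ * p⁻¹) * ((ρ ^ n)⁻¹)⁻¹ := by group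
  rw [e]
  exact Subgroup.Normal.conj_mem inferInstance _ (h.phi_comm_P hφD p hn) _

theorem mk_mem_map_iff [I.Normal] {S : Subgroup A} (hS : I ≤ S) (a : A) :
    (QuotientGroup.mk' I a) ∈ S.map (QuotientGroup.mk' I) ↔ a ∈ S := by
  constructor
  · rintro ⟨s, hs, hsa⟩
    have h1 : s⁻¹ * a ∈ I := by
      rw [← QuotientGroup.eq]
      exact hsa
    have := S.mul_mem hs (hS h1)
    rwa [mul_inv_cancel_left] at this
  · intro ha
    exact ⟨a, ha, rfl⟩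

/-- the outer automorphism group is the direct product of the image of `Xt` and a cyclic group
of order `f` -/
theorem exists_iso [I.Normal] [NeZero f] (hφD : ∀ d ∈ D, φ * d * φ⁻¹ * d⁻¹ ∈ I) :
    Nonempty ((A ⧸ I) ≃* ↥(h.Xt.map (QuotientGroup.mk' I)) × Multiplicative (ZMod f)) := by
  set π := QuotientGroup.mk' I with hπ
  set X := h.Xt.map π with hX
  set c : A ⧸ I := π φ with hc
  have hcz : ∀ j : ℤ, c ^ j = π (φ ^ j) := fun j => (map_zpow π φ j).symm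
  have hcentral : ∀ o : A ⧸ I, c * o = o * c := by
    intro o
    obtain ⟨α, rfl⟩ := QuotientGroup.mk'_surjective I o
    have h1 := h.phi_central hφD α
    have h2 : π (φ * α * φ⁻¹ * α⁻¹) = 1 := (QuotientGroup.eq_one_iff _).2 h1
    rw [map_mul, map_mul, map_mul, map_inv, map_inv] at h2
    have h3 : π φ * π α = π α * π φ := by
      have := mul_inv_eq_one.1 h2
      exact mul_inv_eq_iff_eq_mul.1 this
    exact h3
  have hcX : ∀ j : ℤ, c ^ j ∈ X → c ^ j = 1 := by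
    intro j hj
    rw [hcz] at hj ⊢
    rw [h.mk_mem_map_iff h.I_le_Xt] at hj
    rw [h.phi_zpow_eq_one j (h.phi_zpow_mem j hj), map_one]
  have hord : orderOf c = f := by
    apply Nat.dvd_antisymm
    · apply orderOf_dvd_of_pow_eq_one
      rw [hc, ← map_pow, h.hφf, map_one]
    · have h1 : c ^ (orderOf c : ℤ) = 1 := by
        rw [zpow_natCast]; exact pow_orderOf_eq_one c
      rw [hcz] at h1
      have h2 : φ ^ (orderOf c : ℤ) ∈ I := (QuotientGroup.eq_one_iff _).1 h1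
      have h3 := h.phi_zpow_mem _ (h.I_le_Xt h2)
      exact_mod_cast h3
  let Ψ : ↥X × ↥(Subgroup.zpowers c) →* A ⧸ I :=
    MonoidHom.noncommCoprod X.subtype (Subgroup.zpowers c).subtype (by
      rintro x ⟨y, j, rfl⟩
      show (x : A ⧸ I) * c ^ j = c ^ j * x
      have : Commute c (x : A ⧸ I) := hcentral _
      exact (this.zpow_left j).eq.symm)
  have hΨ : ∀ x y, Ψ (x, y) = (x : A ⧸ I) * (y : A ⧸ I) := fun x y => rfl
  have hinj : Function.Injective Ψ := by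
    rw [injective_iff_map_eq_one]
    rintro ⟨x, ⟨y, j, rfl⟩⟩ hxy
    rw [hΨ] at hxy
    have h1 : c ^ (-j) ∈ X := by
      have : (x : A ⧸ I) = c ^ (-j) := by
        rw [zpow_neg]
        exact eq_inv_of_mul_eq_one_left hxy
      rw [← this]
      exact x.2
    have h2 := hcX _ h1
    rw [zpow_neg, inv_eq_one] at h2
    have h3 : (x : A ⧸ I) = 1 := by
      have : (x : A ⧸ I) * c ^ j = 1 := hxy
      rwa [h2, mul_one] at this
    apply Prod.ext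
    · exact Subtype.ext h3
    · exact Subtype.ext h2
  have hsurj : Function.Surjective Ψ := by
    intro o
    obtain ⟨α, rfl⟩ := QuotientGroup.mk'_surjective I o
    obtain ⟨x, hx, j, rfl⟩ := h.exists_decomp α
    refine ⟨(⟨π x, ⟨x, hx, rfl⟩⟩, ⟨c ^ j, j, rfl⟩), ?_⟩
    rw [hΨ]
    show π x * c ^ j = π (x * φ ^ j)
    rw [map_mul, hcz]
  have e1 : ↥X × ↥(Subgroup.zpowers c) ≃* A ⧸ I := MulEquiv.ofBijective Ψ ⟨hinj, hsurj⟩
  have hcard : Nat.card ↥(Subgroup.zpowers c) = Nat.card (Multiplicative (ZMod f)) := by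
    rw [Nat.card_zpowers, hord]
    show f = Nat.card (ZMod f)
    rw [Nat.card_eq_fintype_card, ZMod.card]
  have e2 : ↥(Subgroup.zpowers c) ≃* Multiplicative (ZMod f) := mulEquivOfCyclicCardEq hcard
  exact ⟨e1.symm.trans (MulEquiv.prodCongr (MulEquiv.refl _) e2)⟩

/-- the image of `ρ²` is not trivial -/
theorem rho_sq_not_mem : ρ * ρ ∉ I := by
  intro hmem
  have h1 : ρ ^ (2 : ℤ) ∈ Γ := by
    have : ρ ^ (2 : ℤ) = ρ * ρ := by
      rw [show (2 : ℤ) = 1 + 1 by norm_num, zpow_add, zpow_one]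
    rw [this]
    exact h.hPΓ (h.hDP (h.hID hmem))
  have := h.rho_zpow_mem 2 h1
  omega

theorem card_X [I.Normal] [NeZero f] (hφD : ∀ d ∈ D, φ * d * φ⁻¹ * d⁻¹ ∈ I) (N : ℕ)
    (hcard : Nat.card (A ⧸ I) = N * f) :
    Nat.card ↥(h.Xt.map (QuotientGroup.mk' I)) = N := by
  obtain ⟨e⟩ := h.exists_iso hφD
  have h1 := Nat.card_congr e.toEquiv
  rw [Nat.card_prod, hcard] at h1
  have h2 : Nat.card (Multiplicative (ZMod f)) = f := by
    show Nat.card (ZMod f) = f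
    rw [Nat.card_eq_fintype_card, ZMod.card]
  rw [h2] at h1
  exact (Nat.eq_of_mul_eq_mul_right (Nat.pos_of_ne_zero (NeZero.ne f)) h1).symm

end Setup

/-- **the even case**: `Out = S₃ × C_f` -/
theorem out_even [I.Normal] [NeZero f] (h : Setup I I P Γ ρ κ φ f)
    (hcard : Nat.card (A ⧸ I) = 6 * f) :
    Nonempty ((A ⧸ I) ≃* Equiv.Perm (Fin 3) × Multiplicative (ZMod f)) := by
  have hφD : ∀ d ∈ I, φ * d * φ⁻¹ * d⁻¹ ∈ I := by
    intro d hd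
    exact I.mul_mem (Subgroup.Normal.conj_mem inferInstance d hd φ) (I.inv_mem hd)
  obtain ⟨e⟩ := h.exists_iso hφD
  have h6 := h.card_X hφD 6 hcard
  have : Finite ↥(h.Xt.map (QuotientGroup.mk' I)) :=
    Nat.finite_of_card_ne_zero (by rw [h6]; norm_num)
  have hna : ¬ ∀ a b : ↥(h.Xt.map (QuotientGroup.mk' I)), a * b = b * a := by
    intro hab
    have h1 := hab ⟨QuotientGroup.mk' I ρ, ⟨ρ, h.rho_mem_Xt, rfl⟩⟩
      ⟨QuotientGroup.mk' I κ, ⟨κ, h.P_le_Xt h.hκP, rfl⟩⟩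
    have h2 : QuotientGroup.mk' I ρ * QuotientGroup.mk' I κ =
        QuotientGroup.mk' I κ * QuotientGroup.mk' I ρ := congrArg Subtype.val h1
    have hk2 : QuotientGroup.mk' I κ * QuotientGroup.mk' I κ = 1 := by
      rw [← map_mul, h.hκ2, map_one]
    have hkr : QuotientGroup.mk' I κ * QuotientGroup.mk' I ρ * QuotientGroup.mk' I κ =
        (QuotientGroup.mk' I ρ)⁻¹ := by
      rw [← map_mul, ← map_mul, h.hκρ, map_inv]
    rw [← h2, mul_assoc, hk2, mul_one] at hkr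
    have h5 : QuotientGroup.mk' I (ρ * ρ) = 1 := by
      rw [map_mul]
      nth_rewrite 1 [hkr]
      exact inv_mul_cancel _
    exact h.rho_sq_not_mem ((QuotientGroup.eq_one_iff _).1 h5)
  obtain ⟨e3⟩ := Cfsg.Agent.Lib.Helper66.OC.equiv_perm_of_card_six h6 hna
  exact ⟨e.trans (MulEquiv.prodCongr e3 (MulEquiv.refl _))⟩

open Cfsg.Agent.Lib.Helper97.FC in
/-- **the odd case**: `Out = S₄ × C_f` -/
theorem out_odd [I.Normal] [NeZero f] (h : Setup I D P Γ ρ κ φ f)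
    (hV : ∃ ψ : D →* Multiplicative (ZMod 2 × ZMod 2), Function.Surjective ψ ∧
      ψ.ker = I.subgroupOf D)
    (hρV : ∃ d ∈ D, ρ * d * ρ⁻¹ * d⁻¹ ∉ I)
    (hcard : Nat.card (A ⧸ I) = 24 * f) :
    Nonempty ((A ⧸ I) ≃* Equiv.Perm (Fin 4) × Multiplicative (ZMod f)) := by
  classical
  set π := QuotientGroup.mk' I with hπ
  haveI hDn : D.Normal := h.D_normal
  set V : Subgroup (A ⧸ I) := D.map π with hVdef
  haveI hVn : V.Normal := Subgroup.Normal.map hDn π (QuotientGroup.mk'_surjective I)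
  obtain ⟨ψ, hψs, hψk⟩ := hV
  -- exponent two
  have hexpD : ∀ d ∈ D, d * d ∈ I := by
    intro d hd
    have h1 : ((⟨d, hd⟩ : D) * ⟨d, hd⟩ : D) ∈ ψ.ker := by
      rw [MonoidHom.mem_ker, map_mul]
      have : ∀ x : Multiplicative (ZMod 2 × ZMod 2), x * x = 1 := by decide
      exact this _
    rw [hψk, Subgroup.mem_subgroupOf] at h1
    exact h1
  have hexpV : ∀ v ∈ V, v * v = 1 := by
    rintro _ ⟨d, hd, rfl⟩
    rw [← map_mul]
    exact (QuotientGroup.eq_one_iff _).2 (hexpD d hd)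
  have hVcomm : ∀ v ∈ V, ∀ w ∈ V, v * w = w * v := by
    intro v hv w hw
    have hinv : ∀ x ∈ V, x⁻¹ = x := fun x hx => inv_eq_of_mul_eq_one_left (hexpV x hx)
    calc v * w = (v * w)⁻¹ := (hinv _ (V.mul_mem hv hw)).symm
      _ = w⁻¹ * v⁻¹ := mul_inv_rev v w
      _ = w * v := by rw [hinv v hv, hinv w hw]
  have hVC : V ≤ centralizer (V : Set (A ⧸ I)) := by
    intro v hv
    rw [Subgroup.mem_centralizer_iff]
    intro w hw
    exact hVcomm w hw v hv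
  -- card V = 4
  have hV4 : Nat.card V = 4 := by
    have e1 : V = (π.comp D.subtype).range := by
      rw [MonoidHom.range_comp, Subgroup.range_subtype]
    have e2 : (π.comp D.subtype).ker = ψ.ker := by
      rw [hψk]
      ext x
      rw [MonoidHom.mem_ker, Subgroup.mem_subgroupOf, MonoidHom.comp_apply]
      exact QuotientGroup.eq_one_iff _
    rw [e1, ← Subgroup.index_ker, e2, Subgroup.index_ker, MonoidHom.range_eq_top.2 hψs,
      Subgroup.card_top]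
    show Nat.card (ZMod 2 × ZMod 2) = 4
    rw [Nat.card_eq_fintype_card]; rfl
  haveI : Finite V := Nat.finite_of_card_ne_zero (by rw [hV4]; norm_num)
  have hfinV : Fintype V := Fintype.ofFinite V
  have hcard3 : Nat.card {v : V // v ≠ 1} = 3 := by
    rw [Nat.card_eq_fintype_card, Fintype.card_subtype_compl, Fintype.card_subtype_eq,
      ← Nat.card_eq_fintype_card, hV4]
  let e3 : {v : V // v ≠ 1} ≃ Fin 3 := Finite.equivFinOfCardEq hcard3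
  let a3 : (A ⧸ I) →* Equiv.Perm (Fin 3) :=
    (e3.permCongrHom).toMonoidHom.comp ((autToPerm V).comp MulAut.conjNormal)
  have ha3 : ∀ o, a3 o = 1 ↔ o ∈ centralizer (V : Set (A ⧸ I)) := by
    intro o
    rw [← ker_conjNormal V, MonoidHom.mem_ker]
    constructor
    · intro h1
      apply autToPerm_injective V
      rw [map_one]
      apply e3.permCongrHom.injective
      rw [map_one]; exact h1
    · intro h1
      show e3.permCongrHom (autToPerm V (MulAut.conjNormal o)) = 1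
      rw [h1, map_one, map_one]
  have hcomm_of : ∀ x d : A, π x * π d = π d * π x → x * d * x⁻¹ * d⁻¹ ∈ I := by
    intro x d hxd
    rw [← QuotientGroup.eq_one_iff]
    show π (x * d * x⁻¹ * d⁻¹) = 1
    rw [map_mul, map_mul, map_mul, map_inv, map_inv, hxd]
    group
  set R := a3 (π ρ) with hR
  set K := a3 (π κ) with hK
  have hR3 : R ^ 3 = 1 := by
    rw [hR, ← map_pow, ← map_pow, h.hρ3, map_one, map_one]
  have hR1 : R ≠ 1 := by
    intro hR1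
    have h1 := (ha3 _).1 hR1
    obtain ⟨d, hd, hnot⟩ := hρV
    apply hnot
    apply hcomm_of
    exact ((Subgroup.mem_centralizer_iff.1 h1) (π d) ⟨d, hd, rfl⟩).symm
  have hKR : K * R * K⁻¹ = R⁻¹ := by
    rw [hK, hR, ← map_inv, ← map_inv, ← map_mul, ← map_mul, ← map_inv, ← map_mul, ← map_mul,
      ← map_inv, h.kinv, h.hκρ]
  have hC : a3 (π φ) = 1 := by
    apply s3_central R K _ hR3 hR1 hKR
    · rw [hR, ← map_mul, ← map_mul, ← map_mul, ← map_mul, h.hφρ]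
    · rw [hK, ← map_mul, ← map_mul, ← map_mul, ← map_mul, h.hφκ]
  have hφD : ∀ d ∈ D, φ * d * φ⁻¹ * d⁻¹ ∈ I := by
    intro d hd
    apply hcomm_of
    exact ((Subgroup.mem_centralizer_iff.1 ((ha3 _).1 hC)) (π d) ⟨d, hd, rfl⟩).symm
  obtain ⟨e⟩ := h.exists_iso hφD
  have h24 := h.card_X hφD 24 hcard
  set X := h.Xt.map π with hX
  haveI : Finite ↥X := Nat.finite_of_card_ne_zero (by rw [h24]; norm_num)
  have hVX : V ≤ X := Subgroup.map_mono (h.hDP.trans h.P_le_Xt)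
  have hV'4 : Nat.card ↥(V.subgroupOf X) = 4 := by
    rw [Nat.card_congr (Subgroup.subgroupOfEquivOfLe hVX).toEquiv, hV4]
  have hV'2 : ∀ v ∈ V.subgroupOf X, v * v = 1 := by
    intro v hv
    apply Subtype.ext
    exact hexpV _ (Subgroup.mem_subgroupOf.1 hv)
  haveI : Fact (Nat.Prime 3) := ⟨Nat.prime_three⟩
  have hordR : orderOf R = 3 := orderOf_eq_prime hR3 hR1
  have hCV : centralizer ((V.subgroupOf X : Subgroup ↥X) : Set ↥X) ≤ V.subgroupOf X := by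
    intro x hx
    rw [Subgroup.mem_subgroupOf]
    have hx1 : (x : A ⧸ I) ∈ centralizer (V : Set (A ⧸ I)) := by
      rw [Subgroup.mem_centralizer_iff]
      intro v hv
      have := (Subgroup.mem_centralizer_iff.1 hx) ⟨v, hVX hv⟩ (Subgroup.mem_subgroupOf.2 hv)
      exact congrArg Subtype.val this
    have ha : a3 (x : A ⧸ I) = 1 := (ha3 _).2 hx1
    obtain ⟨xt, ⟨n, hn⟩, hxt⟩ := x.2
    have ha' : (R ^ n)⁻¹ * a3 (π (ρ ^ n * xt)) = 1 := by
      have e : a3 (π xt) = (R ^ n)⁻¹ * a3 (π (ρ ^ n * xt)) := by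
        rw [map_mul π, map_mul a3, map_zpow π, map_zpow a3, inv_mul_cancel_left]
      rw [← e, hxt]
      exact ha
    rcases h.hPD _ hn with hd | hd
    · have h1 : a3 (π (ρ ^ n * xt)) = 1 := (ha3 _).2 (hVC ⟨_, hd, rfl⟩)
      rw [h1, mul_one, inv_eq_one] at ha'
      have h3 : (3 : ℤ) ∣ n := by
        have := (orderOf_dvd_iff_zpow_eq_one (x := R) (i := n)).2 ha'
        rwa [hordR] at this
      have h4 := h.rho_zpow_eq_one n h3
      rw [h4, one_mul] at hd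
      rw [← hxt]
      exact ⟨xt, hd, rfl⟩
    · exfalso
      have h1 : a3 (π (ρ ^ n * xt)) = K⁻¹ := by
        have e1 : ρ ^ n * xt = (ρ ^ n * xt * κ) * κ⁻¹ := by group
        rw [e1, map_mul π, map_mul a3, (ha3 _).2 (hVC ⟨_, hd, rfl⟩), one_mul, map_inv π,
          map_inv a3]
      rw [h1] at ha'
      have h2 : K = (R ^ n)⁻¹ := by
        have := mul_eq_one_iff_eq_inv.1 ha'
        rw [inv_inv] at this
        exact this.symm
      have h3 : K * R * K⁻¹ = R := by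
        rw [h2, inv_inv]
        have hc : Commute (R ^ n) R := (Commute.refl R).zpow_left n
        calc (R ^ n)⁻¹ * R * R ^ n = (R ^ n)⁻¹ * (R * R ^ n) := by group
          _ = (R ^ n)⁻¹ * (R ^ n * R) := by rw [hc.eq]
          _ = R := by group
      rw [hKR] at h3
      apply hR1
      have h4 : R * R = 1 := by
        nth_rewrite 1 [← h3]
        exact inv_mul_cancel R
      calc R = R ^ 3 * (R * R)⁻¹ := by group
        _ = 1 := by rw [hR3, h4]; group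
  have hidx : (V.subgroupOf X).index ≠ 2 := by
    have := Subgroup.card_mul_index (V.subgroupOf X)
    rw [hV'4, h24] at this
    omega
  rcases klein_ident (V.subgroupOf X) hV'4 hV'2 hCV hidx with ⟨⟨e4⟩⟩ | ⟨⟨e4⟩⟩ | ⟨⟨e4⟩⟩
  · exfalso
    have := Nat.card_congr e4.toEquiv
    rw [h24, DihedralGroup.nat_card] at this
    omega
  · exfalso
    have := Nat.card_congr e4.toEquiv
    rw [h24, nat_card_alternatingGroup, Nat.card_fin] at this
    norm_num [Nat.factorial] at this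
  · exact ⟨e.trans (MulEquiv.prodCongr e4 (MulEquiv.refl _))⟩

end

end Cfsg.Agent.Lib.Helper43.Tri.OutAbs
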