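import Cfsg.Agent.Lib.Helper43.Tri.Gen
import Cfsg.Agent.Lib.Helper8.OmegaIwasawa

set_option autoImplicit false
set_option linter.unusedSimpArgs false
set_option linter.unusedVariables false
set_option linter.unnecessarySeqFocus false
set_option linter.unusedSectionVars false
set_option linter.style.haveILetI false

/-!
# Every element of `Ω` has partners in `Ω`
-/

namespace Cfsg.Agent.Lib.Helper43.Tri

open Matrix Cfsg.Agent.Lib.Helper8 Cfsg.Agent.Lib.Helper13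
open scoped commutatorElement

variable {F : Type*} [Field F]

local notation "Q8" => Cfsg.quadFormPlus 4 F

/-- the isometry group -/
abbrev O8 (F : Type*) [Field F] : Subgroup (GL I8 F) :=
  Cfsg.isometryGroup F (Cfsg.quadFormPlus 4 F)

theorem mem_O8_iff (g : GL I8 F) :
    g ∈ O8 F ↔ ∀ x, Q8 ((g : Matrix I8 I8 F) *ᵥ x) = Q8 x :=
  mem_isometryGroup_iff _ _

theorem simMul {g : GL I8 F} (hg : g ∈ GO8 F) :
    ∃ c : F, c ≠ 0 ∧ (∀ v, Q8 ((g : Matrix I8 I8 F) *ᵥ v) = c * Q8 v) ∧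
      (∀ v, Q8 (((g⁻¹ : GL I8 F) : Matrix I8 I8 F) *ᵥ v) = c⁻¹ * Q8 v) := by
  obtain ⟨c, hc⟩ := hg
  refine ⟨c, c.ne_zero, hc, fun v => ?_⟩
  have h := hc (((g⁻¹ : GL I8 F) : Matrix I8 I8 F) *ᵥ v)
  rw [GL_inv_mulVec] at h
  rw [h, ← mul_assoc, inv_mul_cancel₀ c.ne_zero, one_mul]

/-- commutators of similarities are isometries -/
theorem comm_mem_O8 {g h : GL I8 F} (hg : g ∈ GO8 F) (hh : h ∈ GO8 F) : ⁅g, h⁆ ∈ O8 F := by
  obtain ⟨c, hc0, hc, hci⟩ := simMul hg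
  obtain ⟨d, hd0, hd, hdi⟩ := simMul hh
  rw [mem_O8_iff]
  intro x
  rw [commutatorElement_def, Units.val_mul, Units.val_mul, Units.val_mul, ← Matrix.mulVec_mulVec,
    ← Matrix.mulVec_mulVec, ← Matrix.mulVec_mulVec, hc, hd, hci, hdi]
  field_simp

/-- elements with partners in a given subgroup -/
def PartIn (A : Subgroup (GL I8 F)) : Subgroup (GL I8 F) where
  carrier := {g | ∃ g1 g2 : GL I8 F, g1 ∈ A ∧ g2 ∈ A ∧ Rel g g1 g2}
  one_mem' := ⟨1, 1, A.one_mem, A.one_mem, Rel.one⟩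
  mul_mem' := by
    rintro a b ⟨a1, a2, ha1, ha2, ha⟩ ⟨b1, b2, hb1, hb2, hb⟩
    exact ⟨a1 * b1, a2 * b2, A.mul_mem ha1 hb1, A.mul_mem ha2 hb2, Rel.mul ha hb⟩
  inv_mem' := by
    rintro a ⟨a1, a2, ha1, ha2, ha⟩
    exact ⟨a1⁻¹, a2⁻¹, A.inv_mem ha1, A.inv_mem ha2, Rel.inv ha⟩

theorem mem_PartIn (A : Subgroup (GL I8 F)) (g : GL I8 F) :
    g ∈ PartIn A ↔ ∃ g1 g2 : GL I8 F, g1 ∈ A ∧ g2 ∈ A ∧ Rel g g1 g2 := Iff.rfl

theorem Rel.comm {g0 g1 g2 h0 h1 h2 : GL I8 F} (hg : Rel g0 g1 g2) (hh : Rel h0 h1 h2) :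
    Rel ⁅g0, h0⁆ ⁅g1, h1⁆ ⁅g2, h2⁆ := by
  rw [commutatorElement_def, commutatorElement_def, commutatorElement_def]
  exact Rel.mul (Rel.mul (Rel.mul hg hh) (Rel.inv hg)) (Rel.inv hh)

theorem finrank_I8 : Module.finrank F (I8 → F) = 8 := by
  rw [Module.finrank_pi]
  simp

theorem omega_perfect8 [Fintype F] :
    ⁅Cfsg.Omega F Q8, Cfsg.Omega F Q8⁆ = Cfsg.Omega F Q8 := by
  have hc : (Cfsg.quadFormPlus 4 F) = ⇑(plusForm 4 F) := plusForm_coe 4 F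
  rw [hc]
  exact omega_perfect (plusForm 4 F) (plusForm_nondegenerate 4 F)
    (by rw [finrank_I8]; norm_num) (fun _ => by rw [finrank_I8]; norm_num)

/-- the image of `Ω` in `GL` -/
def OmGL (F : Type*) [Field F] : Subgroup (GL I8 F) := ⁅O8 F, O8 F⁆

theorem coe_mem_OmGL (s : ↥(Cfsg.Omega F Q8)) :
    ((s : ↥(O8 F)) : GL I8 F) ∈ OmGL F := by
  unfold OmGL
  rw [← Subgroup.map_subtype_commutator]
  exact ⟨s.1, s.2, rfl⟩

theorem exists_of_mem_OmGL {g : GL I8 F} (hg : g ∈ OmGL F) :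
    ∃ s : ↥(Cfsg.Omega F Q8), ((s : ↥(O8 F)) : GL I8 F) = g := by
  unfold OmGL at hg
  rw [← Subgroup.map_subtype_commutator] at hg
  obtain ⟨s, hs, rfl⟩ := hg
  exact ⟨⟨s, hs⟩, rfl⟩

/-- stage one: partners which are isometries -/
theorem omega_le_partO [Fintype F] (s : ↥(Cfsg.Omega F Q8)) :
    ((s : ↥(O8 F)) : GL I8 F) ∈ PartIn (O8 F) := by
  have h : (Cfsg.Omega F Q8) ≤ (PartIn (O8 F)).comap (O8 F).subtype := by
    conv_lhs => rw [← omega_perfect8]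
    rw [Subgroup.commutator_le]
    intro a ha b hb
    obtain ⟨a1, a2, _, ha1, ha2, hra⟩ := (mem_H0 _).1 (omega_le_H0 ⟨a, ha⟩)
    obtain ⟨b1, b2, _, hb1, hb2, hrb⟩ := (mem_H0 _).1 (omega_le_H0 ⟨b, hb⟩)
    show ((⁅a, b⁆ : ↥(O8 F)) : GL I8 F) ∈ PartIn (O8 F)
    refine ⟨⁅a1, b1⁆, ⁅a2, b2⁆, comm_mem_O8 ha1 hb1, comm_mem_O8 ha2 hb2, ?_⟩
    have : ((⁅a, b⁆ : ↥(O8 F)) : GL I8 F) = ⁅(a : GL I8 F), (b : GL I8 F)⁆ := by
      rw [commutatorElement_def, commutatorElement_def]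
      simp only [Subgroup.coe_mul, Subgroup.coe_inv]
    rw [this]
    exact Rel.comm hra hrb
  exact h s.2

/-- stage two: partners in `Ω` -/
theorem omega_le_partOm [Fintype F] (s : ↥(Cfsg.Omega F Q8)) :
    ((s : ↥(O8 F)) : GL I8 F) ∈ PartIn (OmGL F) := by
  have h : (Cfsg.Omega F Q8) ≤ (PartIn (OmGL F)).comap (O8 F).subtype := by
    conv_lhs => rw [← omega_perfect8]
    rw [Subgroup.commutator_le]
    intro a ha b hb
    obtain ⟨a1, a2, ha1, ha2, hra⟩ := omega_le_partO ⟨a, ha⟩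
    obtain ⟨b1, b2, hb1, hb2, hrb⟩ := omega_le_partO ⟨b, hb⟩
    show ((⁅a, b⁆ : ↥(O8 F)) : GL I8 F) ∈ PartIn (OmGL F)
    refine ⟨⁅a1, b1⁆, ⁅a2, b2⁆, Subgroup.commutator_mem_commutator ha1 hb1,
      Subgroup.commutator_mem_commutator ha2 hb2, ?_⟩
    have : ((⁅a, b⁆ : ↥(O8 F)) : GL I8 F) = ⁅(a : GL I8 F), (b : GL I8 F)⁆ := by
      rw [commutatorElement_def, commutatorElement_def]
      simp only [Subgroup.coe_mul, Subgroup.coe_inv]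
    rw [this]
    exact Rel.comm hra hrb
  exact h s.2

/-- every element of `Ω` has partners in `Ω` -/
theorem exists_partner [Fintype F] (s : ↥(Cfsg.Omega F Q8)) :
    ∃ s1 s2 : ↥(Cfsg.Omega F Q8), Rel ((s : ↥(O8 F)) : GL I8 F) ((s1 : ↥(O8 F)) : GL I8 F)
      ((s2 : ↥(O8 F)) : GL I8 F) := by
  obtain ⟨g1, g2, h1, h2, hr⟩ := omega_le_partOm s
  obtain ⟨s1, rfl⟩ := exists_of_mem_OmGL h1
  obtain ⟨s2, rfl⟩ := exists_of_mem_OmGL h2
  exact ⟨s1, s2, hr⟩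

end Cfsg.Agent.Lib.Helper43.Tri
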