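import Cfsg.Agent.Lib.Helper43.Tri.Triple
import Cfsg.Agent.Lib.Helper13.Orth
import Cfsg.Agent.Lib.Helper8.OrthForms

set_option autoImplicit false
set_option linter.unusedSimpArgs false
set_option linter.unusedVariables false
set_option linter.unnecessarySeqFocus false
set_option linter.unusedSectionVars false

/-!
# Octonion conjugation, reflections, and the triples attached to products of two reflections
-/

namespace Cfsg.Agent.Lib.Helper43.Tri

open Matrix Cfsg.Agent.Lib.Helper8 Cfsg.Agent.Lib.Helper13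

variable {F : Type*} [Field F]

local notation "Q8" => Cfsg.quadFormPlus 4 F

theorem cj_cj (x : I8 → F) : cj (cj x) = x := by
  apply ofV_injective
  rw [ofV_cj, ofV_cj, Oct.conj_conj]

theorem cj_om (x y : I8 → F) : cj (om x y) = om (cj y) (cj x) := by
  apply ofV_injective
  rw [ofV_cj, ofV_om, ofV_om, ofV_cj, ofV_cj, Oct.conj_mul]

theorem cj_add (x y : I8 → F) : cj (x + y) = cj x + cj y := by
  apply ofV_injective
  rw [ofV_cj, ofV_add, ofV_add, ofV_cj, ofV_cj, Oct.conj_add]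

theorem cj_smul (c : F) (x : I8 → F) : cj (c • x) = c • cj x := by
  apply ofV_injective
  rw [ofV_cj, ofV_smul, ofV_smul, ofV_cj, Oct.conj_smul]

theorem cj_e1 : cj (e1 : I8 → F) = e1 := by
  apply ofV_injective
  rw [ofV_cj, ofV_e1]
  ext <;> simp [Oct.conj, Oct.one]

/-- `x̄ = ⟨x, 1⟩ 1 - x` -/
theorem cj_eq (x : I8 → F) : cj x = QuadraticMap.polar Q8 x e1 • e1 - x := by
  apply ofV_injective
  rw [ofV_cj, Oct.conj_eq, sub_eq_add_neg, ofV_add, ofV_smul, ← pol_ofV, ofV_e1, ← neg_one_smul F x,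
    ofV_smul]

/-- conjugation as a linear map -/
def Km : (I8 → F) →ₗ[F] (I8 → F) where
  toFun x := cj x
  map_add' x y := cj_add x y
  map_smul' c x := cj_smul c x

/-- the matrix of conjugation -/
noncomputable def KM : Matrix I8 I8 F := LinearMap.toMatrix' (Km (F := F))

theorem KM_mulVec (x : I8 → F) : (KM : Matrix I8 I8 F) *ᵥ x = cj x := by
  unfold KM
  rw [LinearMap.toMatrix'_mulVec]
  rfl

theorem KM_mul_KM : (KM : Matrix I8 I8 F) * KM = 1 := by
  apply mat_ext
  intro v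
  rw [← Matrix.mulVec_mulVec, KM_mulVec, KM_mulVec, cj_cj, Matrix.one_mulVec]

/-- conjugation in `GL` -/
noncomputable def Kg : GL I8 F where
  val := KM
  inv := KM
  val_inv := KM_mul_KM
  inv_val := KM_mul_KM

theorem Kg_val : ((Kg : GL I8 F) : Matrix I8 I8 F) = KM := rfl

theorem Kg_mul_Kg : (Kg : GL I8 F) * Kg = 1 := by
  apply Units.ext
  rw [Units.val_mul, Kg_val, KM_mul_KM, Units.val_one]

theorem Kg_inv : (Kg : GL I8 F)⁻¹ = Kg := by
  rw [inv_eq_iff_mul_eq_one, Kg_mul_Kg]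

theorem Kg_mem : (Kg : GL I8 F) ∈ Cfsg.isometryGroup F Q8 := by
  rw [mem_isometryGroup_iff]
  intro x
  rw [Kg_val, KM_mulVec, Q_cj]

/-- `a x a = N(a) r_a (r_1 x)` -/
theorem refl_refl (a x : I8 → F) (ha : Q8 a ≠ 0) :
    om (om a x) a = Q8 a • (Cfsg.reflectionMatrix Q8 a *ᵥ (Cfsg.reflectionMatrix Q8 e1 *ᵥ x)) := by
  have hc : (Cfsg.quadFormPlus 4 F) = ⇑(plusForm 4 F) := plusForm_coe 4 F
  have h1 : Cfsg.reflectionMatrix Q8 e1 *ᵥ x = -cj x := by
    rw [hc, reflectionMatrix_mulVec, ← hc, Q_e1, inv_one, one_mul, cj_eq,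
      QuadraticMap.polar_comm]
    abel
  have h2 : QuadraticMap.polar Q8 a (-cj x) = -QuadraticMap.polar Q8 a (cj x) := by
    rw [hc, QuadraticMap.polar_neg_right]
  rw [h1, hc, reflectionMatrix_mulVec, ← hc, om_bmul, h2, smul_sub,
    smul_smul]
  have h3 : Q8 a * ((Q8 a)⁻¹ * -QuadraticMap.polar Q8 a (cj x)) =
      -QuadraticMap.polar Q8 a (cj x) := by
    field_simp
  rw [h3, neg_smul, smul_neg]
  abel

end Cfsg.Agent.Lib.Helper43.Tri
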