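import Cfsg.Agent.Lib.Helper43.Tri.Cyclic
import Cfsg.Agent.Lib.Helper43.OrthCardForms
import Cfsg.Agent.Lib.Helper37.OmegaCenter3

set_option autoImplicit false
set_option linter.unusedSimpArgs false
set_option linter.unusedVariables false
set_option linter.unnecessarySeqFocus false
set_option linter.unusedSectionVars false
set_option linter.style.haveILetI false

/-!
# The triality automorphism of `PΩ⁺₈(F)`
-/

namespace Cfsg.Agent.Lib.Helper43.Tri

open Matrix Cfsg.Agent.Lib.Helper8 Cfsg.Agent.Lib.Helper13 Cfsg.Agent.Lib.Helper37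

variable {F : Type*} [Field F]

local notation "Q8" => Cfsg.quadFormPlus 4 F

/-- `Ω⁺₈(F)` -/
abbrev Om8 (F : Type*) [Field F] : Subgroup ↥(O8 F) := Cfsg.Omega F (Cfsg.quadFormPlus 4 F)

/-- `PΩ⁺₈(F)` -/
abbrev PO8 (F : Type*) [Field F] := Cfsg.POmega F (Cfsg.quadFormPlus 4 F)

/-- the underlying matrix group element -/
abbrev toGL (s : ↥(Om8 F)) : GL I8 F := ((s : ↥(O8 F)) : GL I8 F)

/-- octonion conjugation in the isometry group -/
noncomputable def KO : ↥(O8 F) := ⟨Kg, Kg_mem⟩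

/-- conjugation by octonion conjugation on `Ω` -/
noncomputable def hatO : ↥(Om8 F) ≃* ↥(Om8 F) := MulAut.conjNormal (KO (F := F))

theorem hatO_val (s : ↥(Om8 F)) : toGL (hatO s) = hatG (toGL s) := by
  rw [hatG_eq]
  rfl

theorem hatO_hatO (s : ↥(Om8 F)) : hatO (hatO s) = s := by
  apply Subtype.ext
  apply Subtype.ext
  show toGL (hatO (hatO s)) = toGL s
  rw [hatO_val, hatO_val, hatG_hatG]

/-- the induced automorphism of `PΩ` -/
noncomputable def hatP : PO8 F ≃* PO8 F :=
  QuotientGroup.congr _ _ hatO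
    (Subgroup.characteristic_iff_map_eq.1 (inferInstance : (Subgroup.center ↥(Om8 F)).Characteristic)
      hatO)

theorem hatP_mk (s : ↥(Om8 F)) :
    hatP (QuotientGroup.mk s : PO8 F) = QuotientGroup.mk (hatO s) := rfl

/-- `s1` is a partner of `s` -/
def Part (s s1 : ↥(Om8 F)) : Prop := ∃ s2 : ↥(Om8 F), Rel (toGL s) (toGL s1) (toGL s2)

theorem exists_part [Fintype F] (s : ↥(Om8 F)) : ∃ s1, Part s s1 := by
  obtain ⟨s1, s2, h⟩ := exists_partner s
  exact ⟨s1, s2, h⟩

theorem Part.one : Part (1 : ↥(Om8 F)) 1 := ⟨1, Rel.one⟩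

theorem Part.mul {s s1 t t1 : ↥(Om8 F)} (hs : Part s s1) (ht : Part t t1) :
    Part (s * t) (s1 * t1) := by
  obtain ⟨s2, hs⟩ := hs
  obtain ⟨t2, ht⟩ := ht
  exact ⟨s2 * t2, Rel.mul hs ht⟩

theorem scalar_mem_center (z : ↥(Om8 F)) (c : F)
    (hz : ∀ x, ((toGL z : GL I8 F) : Matrix I8 I8 F) *ᵥ x = c • x) :
    z ∈ Subgroup.center ↥(Om8 F) := by
  rw [Subgroup.mem_center_iff]
  intro g
  apply Subtype.ext
  apply Subtype.ext
  apply Units.ext
  show ((toGL g * toGL z : GL I8 F) : Matrix I8 I8 F) = ((toGL z * toGL g : GL I8 F) : Matrix I8 I8 F)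
  rw [Units.val_mul, Units.val_mul]
  apply mat_ext
  intro v
  rw [← Matrix.mulVec_mulVec, ← Matrix.mulVec_mulVec, hz, hz, Matrix.mulVec_smul]

theorem Part.unique {s s1 t1 : ↥(Om8 F)} (h1 : Part s s1) (h2 : Part s t1) :
    (QuotientGroup.mk s1 : PO8 F) = QuotientGroup.mk t1 := by
  obtain ⟨s2, hs⟩ := h1
  obtain ⟨t2, ht⟩ := h2
  obtain ⟨c, hc, e1, e2⟩ := rel_unique hs ht
  rw [QuotientGroup.eq]
  apply scalar_mem_center _ c
  intro x
  show ((((toGL s1)⁻¹ * toGL t1 : GL I8 F)) : Matrix I8 I8 F) *ᵥ x = c • x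
  rw [Units.val_mul, ← Matrix.mulVec_mulVec, e1, Matrix.mulVec_smul, GL_inv_mulVec']

theorem plus_hypFam8 (F : Type*) [Field F] :
    HypFam (plusForm 4 F) 4 (fun i => Pi.single (Sum.inl i) 1)
      (fun i => Pi.single (Sum.inr i) 1) :=
  let h := Cfsg.Agent.Lib.Helper43.plus_family 4 F
  ⟨h.qe, h.qf, h.ee, h.ff, h.ef⟩

/-- central elements are `±1` -/
theorem center_pm : ∀ z : ↥(Cfsg.Omega F Q8), z ∈ Subgroup.center ↥(Cfsg.Omega F Q8) →
    ((((z : ↥(Cfsg.isometryGroup F Q8)) : GL I8 F) : Matrix I8 I8 F) = 1 ∨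
      (((z : ↥(Cfsg.isometryGroup F Q8)) : GL I8 F) : Matrix I8 I8 F) = -1) := by
  have hc : (Cfsg.quadFormPlus 4 F) = ⇑(plusForm 4 F) := plusForm_coe 4 F
  rw [hc]
  intro z hz
  exact center_omega_matrix (plusForm 4 F) (plusForm_nondegenerate 4 F) (plus_hypFam8 F)
    (by norm_num) z hz

/-- central elements are scalar -/
theorem center_scalar (z : ↥(Om8 F)) (hz : z ∈ Subgroup.center ↥(Om8 F)) :
    ∃ c : F, c ≠ 0 ∧ ((toGL z : GL I8 F) : Matrix I8 I8 F) = c • 1 := by
  rcases center_pm z hz with h | h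
  · exact ⟨1, one_ne_zero, by rw [one_smul]; exact h⟩
  · exact ⟨-1, neg_ne_zero.2 one_ne_zero, by rw [neg_smul, one_smul]; exact h⟩

/-- partners of central elements are central -/
theorem Part.center {z z1 : ↥(Om8 F)} (hz : z ∈ Subgroup.center ↥(Om8 F)) (h : Part z z1) :
    z1 ∈ Subgroup.center ↥(Om8 F) := by
  obtain ⟨c, hc, hzc⟩ := center_scalar z hz
  obtain ⟨z2, hr⟩ := h
  have hzS : toGL z = Sg c hc := Units.ext hzc
  rw [hzS] at hr
  obtain ⟨d, hd, e1, e2⟩ := rel_unique (scalar_triple c hc).2.2.2 hr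
  apply scalar_mem_center _ (d * c)
  intro x
  rw [e1 x]
  show d • (((Sg c hc : GL I8 F) : Matrix I8 I8 F) *ᵥ x) = (d * c) • x
  rw [Sg_mulVec, smul_smul]

/-- first step: send an element to the class of a partner -/
noncomputable def rhoA [Fintype F] : ↥(Om8 F) →* PO8 F where
  toFun s := QuotientGroup.mk (Classical.choose (exists_part s))
  map_one' := Part.unique (Classical.choose_spec (exists_part 1)) Part.one
  map_mul' s t := Part.unique (Classical.choose_spec (exists_part (s * t)))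
    (Part.mul (Classical.choose_spec (exists_part s)) (Classical.choose_spec (exists_part t)))

theorem rhoA_eq [Fintype F] {s s1 : ↥(Om8 F)} (h : Part s s1) :
    rhoA s = (QuotientGroup.mk s1 : PO8 F) :=
  Part.unique (Classical.choose_spec (exists_part s)) h

theorem center_le_ker [Fintype F] : Subgroup.center ↥(Om8 F) ≤ (rhoA (F := F)).ker := by
  intro z hz
  rw [MonoidHom.mem_ker]
  have h := Classical.choose_spec (exists_part z)
  have h1 := Part.center hz h
  exact (QuotientGroup.eq_one_iff _).2 h1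

/-- second step: the induced map on `PΩ` -/
noncomputable def rhoB [Fintype F] : PO8 F →* PO8 F :=
  QuotientGroup.lift _ rhoA center_le_ker

/-- triality as an endomorphism -/
noncomputable def rho1 [Fintype F] : PO8 F →* PO8 F :=
  (hatP (F := F)).toMonoidHom.comp rhoB

theorem rho1_mk [Fintype F] {s s1 : ↥(Om8 F)} (h : Part s s1) :
    rho1 (QuotientGroup.mk s : PO8 F) = QuotientGroup.mk (hatO s1) := by
  show hatP (rhoA s) = _
  rw [rhoA_eq h, hatP_mk]

theorem rho1_cube [Fintype F] (x : PO8 F) : rho1 (rho1 (rho1 x)) = x := by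
  induction x using QuotientGroup.induction_on with
  | H s =>
    obtain ⟨s1, s2, h⟩ := exists_partner s
    have h1 : Part s s1 := ⟨s2, h⟩
    have hc1 := Rel.cyc h (s2 : ↥(O8 F)).2
    have h2 : Part (hatO s1) s2 := ⟨hatO s, by rw [hatO_val, hatO_val]; exact hc1⟩
    have hc2 := Rel.cyc hc1 (by rw [← hatO_val]; exact ((hatO s : ↥(Om8 F)) : ↥(O8 F)).2)
    have h3 : Part (hatO s2) (hatO s) :=
      ⟨hatO (hatO s1), by rw [hatO_val, hatO_val, hatO_val, hatO_val]; exact hc2⟩
    rw [rho1_mk h1, rho1_mk h2, rho1_mk h3, hatO_hatO]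

/-- the triality automorphism -/
noncomputable def rho (F : Type*) [Field F] [Fintype F] :
    MulAut (Cfsg.POmega F (Cfsg.quadFormPlus 4 F)) where
  toFun := rho1
  invFun x := rho1 (rho1 x)
  left_inv x := rho1_cube x
  right_inv x := rho1_cube x
  map_mul' x y := map_mul rho1 x y

theorem rho_apply [Fintype F] (x : PO8 F) : rho F x = rho1 x := rfl

/-- the defining property of triality -/
theorem rho_mk [Fintype F] {s s1 s2 : ↥(Om8 F)} (h : Rel (toGL s) (toGL s1) (toGL s2)) :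
    rho F (QuotientGroup.mk s) = QuotientGroup.mk (hatO s1) :=
  rho1_mk ⟨s2, h⟩

theorem rho_pow_three (F : Type*) [Field F] [Fintype F] : rho F ^ 3 = 1 := by
  ext x
  rw [pow_succ, pow_succ, pow_one, MulAut.mul_apply, MulAut.mul_apply, MulAut.one_apply,
    rho_apply, rho_apply, rho_apply, rho1_cube]

end Cfsg.Agent.Lib.Helper43.Tri
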