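import Cfsg.Agent.Lib.Helper43.Tri.OctV
import Cfsg.Prelude.Def_GeometricClasses

set_option autoImplicit false
set_option linter.unusedSimpArgs false
set_option linter.unusedVariables false
set_option linter.unnecessarySeqFocus false
set_option linter.unusedSectionVars false

/-!
# Left and right multiplications and related triples
-/

namespace Cfsg.Agent.Lib.Helper43.Tri

open Matrix

variable {F : Type*} [Field F]

local notation "Q8" => Cfsg.quadFormPlus 4 F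

theorem mat_ext {A B : Matrix I8 I8 F} (h : ∀ v, A *ᵥ v = B *ᵥ v) : A = B :=
  Matrix.toLin'.injective (LinearMap.ext h)

/-- left multiplication as a linear map -/
def Lm (a : I8 → F) : (I8 → F) →ₗ[F] (I8 → F) where
  toFun x := om a x
  map_add' x y := om_add_right a x y
  map_smul' c x := om_smul_right c a x

/-- right multiplication as a linear map -/
def Rm (a : I8 → F) : (I8 → F) →ₗ[F] (I8 → F) where
  toFun x := om x a
  map_add' x y := om_add_left x y a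
  map_smul' c x := om_smul_left c x a

/-- the matrix of left multiplication -/
noncomputable def LM (a : I8 → F) : Matrix I8 I8 F := LinearMap.toMatrix' (Lm a)

/-- the matrix of right multiplication -/
noncomputable def RM (a : I8 → F) : Matrix I8 I8 F := LinearMap.toMatrix' (Rm a)

theorem LM_mulVec (a x : I8 → F) : LM a *ᵥ x = om a x := by
  unfold LM
  rw [LinearMap.toMatrix'_mulVec]
  rfl

theorem RM_mulVec (a x : I8 → F) : RM a *ᵥ x = om x a := by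
  unfold RM
  rw [LinearMap.toMatrix'_mulVec]
  rfl

theorem LM_mul_cj (a : I8 → F) : LM a * LM (cj a) = Q8 a • (1 : Matrix I8 I8 F) := by
  apply mat_ext
  intro v
  rw [← Matrix.mulVec_mulVec, LM_mulVec, LM_mulVec, om_cj_om, Matrix.smul_mulVec, Matrix.one_mulVec]

theorem LM_cj_mul (a : I8 → F) : LM (cj a) * LM a = Q8 a • (1 : Matrix I8 I8 F) := by
  apply mat_ext
  intro v
  rw [← Matrix.mulVec_mulVec, LM_mulVec, LM_mulVec, cj_om_om, Matrix.smul_mulVec, Matrix.one_mulVec]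

theorem RM_mul_cj (a : I8 → F) : RM a * RM (cj a) = Q8 a • (1 : Matrix I8 I8 F) := by
  apply mat_ext
  intro v
  rw [← Matrix.mulVec_mulVec, RM_mulVec, RM_mulVec, om_cj_om', Matrix.smul_mulVec,
    Matrix.one_mulVec]

theorem RM_cj_mul (a : I8 → F) : RM (cj a) * RM a = Q8 a • (1 : Matrix I8 I8 F) := by
  apply mat_ext
  intro v
  rw [← Matrix.mulVec_mulVec, RM_mulVec, RM_mulVec, om_om_cj, Matrix.smul_mulVec,
    Matrix.one_mulVec]

/-- left multiplication by an invertible octonion -/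
noncomputable def Lg (a : I8 → F) (ha : Q8 a ≠ 0) : GL I8 F where
  val := LM a
  inv := (Q8 a)⁻¹ • LM (cj a)
  val_inv := by
    rw [Matrix.mul_smul, LM_mul_cj, smul_smul, inv_mul_cancel₀ ha, one_smul]
  inv_val := by
    rw [Matrix.smul_mul, LM_cj_mul, smul_smul, inv_mul_cancel₀ ha, one_smul]

/-- right multiplication by an invertible octonion -/
noncomputable def Rg (a : I8 → F) (ha : Q8 a ≠ 0) : GL I8 F where
  val := RM a
  inv := (Q8 a)⁻¹ • RM (cj a)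
  val_inv := by
    rw [Matrix.mul_smul, RM_mul_cj, smul_smul, inv_mul_cancel₀ ha, one_smul]
  inv_val := by
    rw [Matrix.smul_mul, RM_cj_mul, smul_smul, inv_mul_cancel₀ ha, one_smul]

theorem Lg_val (a : I8 → F) (ha : Q8 a ≠ 0) : ((Lg a ha : GL I8 F) : Matrix I8 I8 F) = LM a := rfl

theorem Rg_val (a : I8 → F) (ha : Q8 a ≠ 0) : ((Rg a ha : GL I8 F) : Matrix I8 I8 F) = RM a := rfl

/-- scalar matrices -/
noncomputable def Sg (c : F) (hc : c ≠ 0) : GL I8 F where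
  val := c • 1
  inv := c⁻¹ • 1
  val_inv := by
    rw [Matrix.smul_mul, Matrix.one_mul, smul_smul, mul_inv_cancel₀ hc, one_smul]
  inv_val := by
    rw [Matrix.smul_mul, Matrix.one_mul, smul_smul, inv_mul_cancel₀ hc, one_smul]

theorem Sg_val (c : F) (hc : c ≠ 0) :
    ((Sg c hc : GL I8 F) : Matrix I8 I8 F) = c • (1 : Matrix I8 I8 F) := rfl

theorem Sg_mulVec (c : F) (hc : c ≠ 0) (v : I8 → F) :
    ((Sg c hc : GL I8 F) : Matrix I8 I8 F) *ᵥ v = c • v := by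
  rw [Sg_val, Matrix.smul_mulVec, Matrix.one_mulVec]

/-- the similarity group -/
abbrev GO8 (F : Type*) [Field F] : Subgroup (GL I8 F) :=
  Cfsg.Geo.quadSimilarityGroup (F := F) (Cfsg.quadFormPlus 4 F)

theorem Lg_mem (a : I8 → F) (ha : Q8 a ≠ 0) : Lg a ha ∈ GO8 F := by
  refine ⟨Units.mk0 _ ha, fun v => ?_⟩
  rw [Lg_val, LM_mulVec, Q_om]
  rfl

theorem Rg_mem (a : I8 → F) (ha : Q8 a ≠ 0) : Rg a ha ∈ GO8 F := by
  refine ⟨Units.mk0 _ ha, fun v => ?_⟩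
  rw [Rg_val, RM_mulVec, Q_om, mul_comm]
  rfl

theorem Q_smul (c : F) (v : I8 → F) : Q8 (c • v) = c * c * Q8 v := by
  simp only [Cfsg.quadFormPlus, Pi.smul_apply, smul_eq_mul, Finset.mul_sum]
  apply Finset.sum_congr rfl
  intro i _
  ring

theorem Sg_mem (c : F) (hc : c ≠ 0) : Sg c hc ∈ GO8 F := by
  refine ⟨Units.mk0 (c * c) (mul_ne_zero hc hc), fun v => ?_⟩
  rw [Sg_mulVec, Q_smul]
  rfl

/-- related triples -/
def Rel (g0 g1 g2 : GL I8 F) : Prop :=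
  ∀ x y : I8 → F, (g0 : Matrix I8 I8 F) *ᵥ om x y =
    om ((g1 : Matrix I8 I8 F) *ᵥ x) ((g2 : Matrix I8 I8 F) *ᵥ y)

theorem Rel.one : Rel (1 : GL I8 F) 1 1 := by
  intro x y
  simp

theorem Rel.mul {g0 g1 g2 h0 h1 h2 : GL I8 F} (hg : Rel g0 g1 g2) (hh : Rel h0 h1 h2) :
    Rel (g0 * h0) (g1 * h1) (g2 * h2) := by
  intro x y
  rw [Units.val_mul, Units.val_mul, Units.val_mul, ← Matrix.mulVec_mulVec, hh, hg,
    Matrix.mulVec_mulVec, Matrix.mulVec_mulVec]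

theorem GL_inv_mulVec (g : GL I8 F) (v : I8 → F) :
    (g : Matrix I8 I8 F) *ᵥ (((g⁻¹ : GL I8 F) : Matrix I8 I8 F) *ᵥ v) = v := by
  rw [Matrix.mulVec_mulVec, ← Units.val_mul, mul_inv_cancel, Units.val_one, Matrix.one_mulVec]

theorem GL_inv_mulVec' (g : GL I8 F) (v : I8 → F) :
    ((g⁻¹ : GL I8 F) : Matrix I8 I8 F) *ᵥ ((g : Matrix I8 I8 F) *ᵥ v) = v := by
  rw [Matrix.mulVec_mulVec, ← Units.val_mul, inv_mul_cancel, Units.val_one, Matrix.one_mulVec]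

theorem Rel.inv {g0 g1 g2 : GL I8 F} (hg : Rel g0 g1 g2) : Rel g0⁻¹ g1⁻¹ g2⁻¹ := by
  intro x y
  have h := hg (((g1⁻¹ : GL I8 F) : Matrix I8 I8 F) *ᵥ x) (((g2⁻¹ : GL I8 F) : Matrix I8 I8 F) *ᵥ y)
  rw [GL_inv_mulVec, GL_inv_mulVec] at h
  rw [← h, GL_inv_mulVec']

/-- the group of related triples of similarities -/
def T3 (F : Type*) [Field F] : Subgroup (GL I8 F × GL I8 F × GL I8 F) where
  carrier := {t | t.1 ∈ GO8 F ∧ t.2.1 ∈ GO8 F ∧ t.2.2 ∈ GO8 F ∧ Rel t.1 t.2.1 t.2.2}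
  one_mem' := ⟨Subgroup.one_mem _, Subgroup.one_mem _, Subgroup.one_mem _, Rel.one⟩
  mul_mem' := by
    rintro a b ⟨a0, a1, a2, ar⟩ ⟨b0, b1, b2, br⟩
    exact ⟨Subgroup.mul_mem _ a0 b0, Subgroup.mul_mem _ a1 b1, Subgroup.mul_mem _ a2 b2,
      Rel.mul ar br⟩
  inv_mem' := by
    rintro a ⟨a0, a1, a2, ar⟩
    exact ⟨Subgroup.inv_mem _ a0, Subgroup.inv_mem _ a1, Subgroup.inv_mem _ a2, Rel.inv ar⟩

theorem mem_T3 (t : GL I8 F × GL I8 F × GL I8 F) :
    t ∈ T3 F ↔ t.1 ∈ GO8 F ∧ t.2.1 ∈ GO8 F ∧ t.2.2 ∈ GO8 F ∧ Rel t.1 t.2.1 t.2.2 := Iff.rfl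

/-- the Moufang triple `(B_a, L_a, R_a)` -/
theorem moufang_triple (a : I8 → F) (ha : Q8 a ≠ 0) :
    (Lg a ha * Rg a ha, Lg a ha, Rg a ha) ∈ T3 F := by
  refine ⟨Subgroup.mul_mem _ (Lg_mem a ha) (Rg_mem a ha), Lg_mem a ha, Rg_mem a ha, ?_⟩
  intro x y
  show ((Lg a ha * Rg a ha : GL I8 F) : Matrix I8 I8 F) *ᵥ om x y = _
  rw [Units.val_mul, ← Matrix.mulVec_mulVec, Lg_val, Rg_val, RM_mulVec, LM_mulVec, LM_mulVec,
    RM_mulVec, om_moufang, om_flex]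

/-- the scalar triple `(c, c, 1)` -/
theorem scalar_triple (c : F) (hc : c ≠ 0) : (Sg c hc, Sg c hc, (1 : GL I8 F)) ∈ T3 F := by
  refine ⟨Sg_mem c hc, Sg_mem c hc, Subgroup.one_mem _, ?_⟩
  intro x y
  show ((Sg c hc : GL I8 F) : Matrix I8 I8 F) *ᵥ om x y =
    om (((Sg c hc : GL I8 F) : Matrix I8 I8 F) *ᵥ x) (((1 : GL I8 F) : Matrix I8 I8 F) *ᵥ y)
  rw [Sg_mulVec, Sg_mulVec, Units.val_one, Matrix.one_mulVec, om_smul_left]

/-- the scalar triple `(1, c, c⁻¹)` -/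
theorem scalar_triple' (c : F) (hc : c ≠ 0) :
    ((1 : GL I8 F), Sg c hc, Sg c⁻¹ (inv_ne_zero hc)) ∈ T3 F := by
  refine ⟨Subgroup.one_mem _, Sg_mem c hc, Sg_mem _ (inv_ne_zero hc), ?_⟩
  intro x y
  show ((1 : GL I8 F) : Matrix I8 I8 F) *ᵥ om x y =
    om (((Sg c hc : GL I8 F) : Matrix I8 I8 F) *ᵥ x)
      (((Sg c⁻¹ (inv_ne_zero hc) : GL I8 F) : Matrix I8 I8 F) *ᵥ y)
  rw [Sg_mulVec, Sg_mulVec, Units.val_one, Matrix.one_mulVec, om_smul_left, om_smul_right,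
    smul_smul, mul_inv_cancel₀ hc, one_smul]

end Cfsg.Agent.Lib.Helper43.Tri
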